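import Cfsg.Agent.H282.PU.One

/-!
# S3090: the structure of `K / O₂(K)` from the FF theorem
-/

set_option autoImplicit false
set_option linter.unusedSectionVars false
set_option linter.unusedVariables false

namespace Cfsg.Agent.H282.PU

open Subgroup Cfsg Cfsg.Agent.PLocal.ThompsonJ Cfsg.Agent.ZN.ChoiceBase
open Cfsg.Agent.ZN (o2 zl zj jj bau zc)
open Cfsg.Agent.ZN.ChoiceSit
open Cfsg.Agent.Omega.NatPair Cfsg.Agent.Lib.SL2Mat
open Cfsg.Agent.Omega.SQ1.FFOne Cfsg.Agent.Omega.SQ1.VOf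
open Cfsg.Agent.Omega.FFThm
open Cfsg.Agent.Omega.FrameFF (cv)
open Cfsg.Agent.Omega.SQ1.FFOf (off_of_AA cv_le cv_norm)
open Cfsg.Agent.MinSimple.VModule (oddGen mem_oddGen oddGen_le le_normalizer_oddGen)
open scoped Pointwise

universe u v

variable {G : Type u} [Group G] [Finite G]

namespace Ctx

variable {K M Q T : Subgroup G} (c : Ctx K M Q T)

include c

/-- a power of `g ∈ K T` in `K`, with exponent `≡ 1 (mod n)`, `n` odd -/
theorem exists_pow {g : G} (hg : g ∈ K ⊔ T) {n : ℕ} (hn : Odd n) : ∃ j : ℕ, g ^ j ∈ K ∧ j ≡ 1 [MOD n] := by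
  obtain ⟨k, hk, t, ht, rfl⟩ := c.exists_mul hg
  obtain ⟨a, ha⟩ := c.two ⟨t, ht⟩
  have ha' : t ^ 2 ^ a = 1 := by simpa using congrArg Subtype.val ha
  obtain ⟨k', hk', h⟩ := c.pow_mem hk ht (2 ^ a)
  rw [ha', mul_one] at h
  have hnpos : 0 < n := hn.pos
  have hφ : 0 < Nat.totient n := Nat.totient_pos.2 hnpos
  refine ⟨(2 ^ a) ^ Nat.totient n, ?_, ?_⟩
  · obtain ⟨m, hm⟩ := Nat.exists_eq_succ_of_ne_zero hφ.ne'
    rw [hm, Nat.succ_eq_add_one, pow_succ', pow_mul]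
    apply K.pow_mem
    rw [h]; exact hk'
  · apply Nat.ModEq.pow_totient
    exact Nat.Coprime.pow_left _ (Nat.coprime_two_left.2 hn)

/-- **An element of `K` acting trivially on `V / D` is in `O₂(K)`**, `D = C_V(K)`. -/
theorem triv (hne : ((K ⊔ T) ⊓ centralizer (zl T (K ⊔ T) : Set G)) ⊔ T ≠ K ⊔ T) (hm : MinH (K ⊔ T) T)
    {x : G} (hx : x ∈ K)
    (h : ∀ v ∈ zl T (K ⊔ T), v⁻¹ * (x * v * x⁻¹) ∈ cv T (K ⊔ T)) : x ∈ o2 K := by
  set H := K ⊔ T with hH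
  set V := zl T H with hV
  set D := cv T H with hD
  have hKH : K ≤ H := le_sup_left
  have hVn : ∀ g ∈ H, ∀ v ∈ V, g * v * g⁻¹ ∈ V := zl_norm
  have hDn : ∀ g ∈ H, ∀ v ∈ D, g * v * g⁻¹ ∈ D := cv_norm
  have hKD : ∀ g ∈ K, ∀ d ∈ D, g * d * g⁻¹ = d := by
    intro g hg d hd
    have h1 := mem_centralizer_iff.1 hd.2 g (by rw [c.oddGen_eq]; exact hg)
    rw [h1]; group
  have hVsq : ∀ v ∈ V, v * v = 1 := fun v hv => by
    rw [← pow_two]; exact Cfsg.Agent.Omega.SQ1.VOf.MinH.sq hm v hv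
  have hVQ : V ≤ o2 H := Cfsg.Agent.Omega.SQ1.VOf.MinH.zl_le_o2 hm
  have hQV : ∀ q ∈ o2 H, ∀ v ∈ V, q * v = v * q := Cfsg.Agent.Omega.SQ1.VOf.MinH.o2_cent hm
  have hVc : ∀ v ∈ V, ∀ w ∈ V, v * w = w * v := fun v hv w hw => hQV v (hVQ hv) w hw
  -- `C_K(V) ≤ O₂(K)`
  have hKV : K ⊓ centralizer (V : Set G) ≤ o2 K := by
    rcases c.simple_K (N := K ⊓ centralizer (V : Set G)) inf_le_left (by
      rintro k hk y ⟨hyK, hyV⟩
      refine ⟨K.mul_mem (K.mul_mem hk hyK) (K.inv_mem hk), mem_centralizer_iff.2 fun v hv => ?_⟩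
      have h1 : k⁻¹ * v * k ∈ V := by
        have := hVn k⁻¹ (H.inv_mem (hKH hk)) v hv
        rwa [inv_inv] at this
      have h2 := mem_centralizer_iff.1 hyV _ h1
      calc v * (k * y * k⁻¹) = k * (k⁻¹ * v * k * y) * k⁻¹ := by group
        _ = k * (y * (k⁻¹ * v * k)) * k⁻¹ := by rw [h2]
        _ = _ := by group) with h1 | h1
    · exact h1
    · exfalso
      apply hne
      apply le_antisymm
      · exact sup_le inf_le_left le_sup_right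
      · refine sup_le (fun k hk => ?_) le_sup_right
        obtain ⟨y, hy, hyk⟩ := h1 k hk
        have h2 : y⁻¹ * k ∈ T := c.QT (c.OQ hyk)
        have h3 : k = y * (y⁻¹ * k) := by group
        rw [h3]
        exact mul_mem (mem_sup_left ⟨hKH hy.1, hy.2⟩) (mem_sup_right h2)
  -- the subgroup
  let N₀ : Subgroup G := {
    carrier := {x | x ∈ K ∧ ∀ v ∈ V, v⁻¹ * (x * v * x⁻¹) ∈ D}
    one_mem' := ⟨K.one_mem, fun v _ => by
      have : v⁻¹ * (1 * v * 1⁻¹) = 1 := by group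
      rw [this]; exact one_mem _⟩
    mul_mem' := by
      rintro x y ⟨hx, hx'⟩ ⟨hy, hy'⟩
      refine ⟨K.mul_mem hx hy, fun v hv => ?_⟩
      have h1 := hx' _ (hVn y (hKH hy) v hv)
      have h2 := D.mul_mem (hy' v hv) h1
      have e : v⁻¹ * (y * v * y⁻¹) * ((y * v * y⁻¹)⁻¹ * (x * (y * v * y⁻¹) * x⁻¹)) =
        v⁻¹ * (x * y * v * (x * y)⁻¹) := by group
      rwa [e] at h2
    inv_mem' := by
      rintro x ⟨hx, hx'⟩
      refine ⟨K.inv_mem hx, fun v hv => ?_⟩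
      have h1 := hVn x⁻¹ (H.inv_mem (hKH hx)) v hv
      have h2 := D.inv_mem (hx' _ h1)
      have e : ((x⁻¹ * v * x⁻¹⁻¹)⁻¹ * (x * (x⁻¹ * v * x⁻¹⁻¹) * x⁻¹))⁻¹ = v⁻¹ * (x⁻¹ * v * x⁻¹⁻¹) := by group
      rwa [e] at h2 }
  have hN₀sq : ∀ y ∈ N₀, y * y ∈ o2 K := by
    rintro y ⟨hyK, hy⟩
    apply hKV
    refine ⟨K.mul_mem hyK hyK, mem_centralizer_iff.2 fun v hv => ?_⟩
    have h1 := hy v hv
    set d := v⁻¹ * (y * v * y⁻¹) with hd
    have h2 : y * v * y⁻¹ = v * d := by rw [hd]; group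
    have h3 : y * d * y⁻¹ = d := hKD y hyK d h1
    have h4 : y * y * v * (y * y)⁻¹ = v := by
      calc y * y * v * (y * y)⁻¹ = y * (y * v * y⁻¹) * y⁻¹ := by group
        _ = y * (v * d) * y⁻¹ := by rw [h2]
        _ = (y * v * y⁻¹) * (y * d * y⁻¹) := by group
        _ = v * (d * d) := by rw [h2, h3, mul_assoc]
        _ = v := by rw [hVsq d (cv_le h1), mul_one]
    exact (mul_inv_eq_iff_eq_mul.1 h4).symm
  rcases c.simple_K (N := N₀) (fun y hy => hy.1) (by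
    rintro k hk y ⟨hyK, hyV⟩
    refine ⟨K.mul_mem (K.mul_mem hk hyK) (K.inv_mem hk), fun v hv => ?_⟩
    have h1 := hVn k⁻¹ (H.inv_mem (hKH hk)) v hv
    have h2 := hDn k (hKH hk) _ (hyV _ h1)
    have e : k * ((k⁻¹ * v * k⁻¹⁻¹)⁻¹ * (y * (k⁻¹ * v * k⁻¹⁻¹) * y⁻¹)) * k⁻¹ =
      v⁻¹ * (k * y * k⁻¹ * v * (k * y * k⁻¹)⁻¹) := by group
    rwa [e] at h2) with h1 | h1
  · exact h1 ⟨hx, h⟩
  · exfalso
    have hoN : o2 K ≤ N₀ := by
      intro y hy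
      refine ⟨o2_le K hy, fun v hv => ?_⟩
      have h2 : y ∈ o2 H := by rw [c.o2_eq]; exact c.OQ hy
      rw [hQV y h2 v hv]
      have e : v⁻¹ * (v * y * y⁻¹) = 1 := by group
      rw [e]; exact one_mem _
    have hKN : ∀ k ∈ K, k * k ∈ o2 K := by
      intro k hk
      apply hN₀sq
      obtain ⟨y, hy, hyk⟩ := h1 k hk
      have h3 : k = y * (y⁻¹ * k) := by group
      rw [h3]
      exact mul_mem hy (hoN hyk)
    apply c.K_not_two
    intro k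
    obtain ⟨n, hn⟩ := (isPGroup_o2 K) ⟨_, hKN k k.2⟩
    refine ⟨n + 1, ?_⟩
    have hn' : ((k : G) * k) ^ 2 ^ n = 1 := by simpa using congrArg Subtype.val hn
    apply Subtype.ext
    show (k : G) ^ 2 ^ (n + 1) = 1
    rw [pow_succ', pow_mul, pow_two, hn']

end Ctx

/-! ### Abstract actions -/

/-- "`x` acts as `A`" -/
structure Rep (K M Q T : Subgroup G) (k : ℕ) (Γ : Type) [Group Γ] (R : G → (Fin k → Γ) → Prop) : Prop where
  c : Ctx K M Q T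
  pos : 0 < k
  one : R 1 1
  mul : ∀ x y A B, R x A → y ∈ K ⊔ T → R y B → R (x * y) (A * B)
  inj : ∀ x A B, R x A → R x B → A = B
  triv : ∀ x ∈ K, R x 1 → x ∈ o2 K
  o2 : ∀ x ∈ o2 K, R x 1
  lift : ∀ A, ∃ g ∈ K ⊔ T, R g A
  conj : ∀ g ∈ K, ∀ x ∈ K, ∀ A, R x A → ∃ B, R (g * x * g⁻¹) B
  γ : ∃ γ : Γ, γ ≠ 1 ∧ Odd (orderOf γ)

namespace Rep

variable {K M Q T : Subgroup G} {k : ℕ} {Γ : Type} [Group Γ] {R : G → (Fin k → Γ) → Prop}
variable (r : Rep K M Q T k Γ R)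

include r

theorem pow {g : G} {A : Fin k → Γ} (hg : g ∈ K ⊔ T) (h : R g A) (n : ℕ) : R (g ^ n) (A ^ n) := by
  induction n with
  | zero => rw [pow_zero, pow_zero]; exact r.one
  | succ n ih => rw [pow_succ, pow_succ]; exact r.mul _ _ _ _ ih hg h

/-- elements of odd order lift to `K` -/
theorem exists_lift {A : Fin k → Γ} {n : ℕ} (hn : Odd n) (hA : A ^ n = 1) : ∃ x ∈ K, R x A := by
  obtain ⟨g, hg, hgA⟩ := r.lift A
  obtain ⟨j, hj, hj1⟩ := r.c.exists_pow hg hn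
  refine ⟨g ^ j, hj, ?_⟩
  have h1 := r.pow hg hgA j
  have h2 : A ^ j = A := by
    have h3 : A ^ j = A ^ 1 := by
      rw [pow_eq_pow_iff_modEq]
      exact hj1.of_dvd (orderOf_dvd_of_pow_eq_one hA)
    rwa [pow_one] at h3
  rwa [h2] at h1

theorem inv {g : G} {A : Fin k → Γ} (hg : g ∈ K) (h : R g A) : R g⁻¹ A⁻¹ := by
  have hg' : g ∈ K ⊔ T := mem_sup_left hg
  have hpos : 0 < orderOf g := orderOf_pos g
  have h1 := r.pow hg' h (orderOf g - 1)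
  have h2 : g ^ (orderOf g - 1) = g⁻¹ := by
    rw [eq_inv_iff_mul_eq_one, ← pow_succ, Nat.sub_add_cancel hpos, pow_orderOf_eq_one]
  have h3 : A ^ (orderOf g - 1) = A⁻¹ := by
    rw [eq_inv_iff_mul_eq_one, ← pow_succ, Nat.sub_add_cancel hpos]
    have h4 := r.pow hg' h (orderOf g)
    rw [pow_orderOf_eq_one] at h4
    exact r.inj _ _ _ h4 r.one
  rwa [h2, h3] at h1

/-- a subgroup of `K` defined by a normal condition -/
theorem cover (p : (Fin k → Γ) → Prop) (h1 : p 1) (hm : ∀ A B, p A → p B → p (A * B)) (hi : ∀ A, p A → p A⁻¹)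
    (hc : ∀ x ∈ K, ∀ g ∈ K, ∀ A, p A → R x A → ∃ B, p B ∧ R (g * x * g⁻¹) B)
    {x₀ : G} (hx₀ : x₀ ∈ K) {A₀ : Fin k → Γ} (hA₀ : R x₀ A₀) (hp : p A₀) (hA1 : A₀ ≠ 1) :
    ∀ x ∈ K, ∃ A, p A ∧ R x A := by
  let N : Subgroup G := {
    carrier := {x | x ∈ K ∧ ∃ A, p A ∧ R x A}
    one_mem' := ⟨K.one_mem, 1, h1, r.one⟩
    mul_mem' := by
      rintro x y ⟨hx, A, hA, hxA⟩ ⟨hy, B, hB, hyB⟩
      exact ⟨K.mul_mem hx hy, A * B, hm _ _ hA hB, r.mul _ _ _ _ hxA (mem_sup_left hy) hyB⟩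
    inv_mem' := by
      rintro x ⟨hx, A, hA, hxA⟩
      exact ⟨K.inv_mem hx, A⁻¹, hi _ hA, r.inv hx hxA⟩ }
  have hNK : N ≤ K := fun x hx => hx.1
  have hoN : Cfsg.Agent.ZN.o2 K ≤ N := fun x hx => ⟨o2_le K hx, 1, h1, r.o2 x hx⟩
  rcases r.c.simple_K hNK (by
    rintro g hg x ⟨hx, A, hA, hxA⟩
    exact ⟨K.mul_mem (K.mul_mem hg hx) (K.inv_mem hg), hc x hx g hg A hA hxA⟩) with h | h
  · exfalso
    apply hA1
    have h2 : x₀ ∈ Cfsg.Agent.ZN.o2 K := h ⟨hx₀, A₀, hp, hA₀⟩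
    exact r.inj _ _ _ hA₀ (r.o2 _ h2)
  · intro x hx
    obtain ⟨y, hy, hyx⟩ := h x hx
    have h2 : x ∈ N := by
      have e : x = y * (y⁻¹ * x) := by group
      rw [e]
      exact mul_mem hy (hoN hyx)
    exact h2.2

/-- an element acting as `γ` on the summand `i` -/
theorem exists_single (i : Fin k) {γ : Γ} (ho : Odd (orderOf γ)) : ∃ x ∈ K, R x (Pi.mulSingle i γ) := by
  apply r.exists_lift ho
  rw [← Pi.mulSingle_pow, pow_orderOf_eq_one, Pi.mulSingle_one]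

/-- every element of `K` acts -/
theorem all : ∀ x ∈ K, ∃ A, R x A := by
  obtain ⟨γ, hγ1, hγ⟩ := r.γ
  obtain ⟨x, hx, hxA⟩ := r.exists_single ⟨0, r.pos⟩ hγ
  have h := r.cover (fun _ => True) trivial (fun _ _ _ _ => trivial) (fun _ _ => trivial)
    (fun x hx g hg A _ hA => by
      obtain ⟨B, hB⟩ := r.conj g hg x hx A hA
      exact ⟨B, trivial, hB⟩) hx hxA trivial (by
      intro h1
      apply hγ1
      have h2 := congrFun h1 ⟨0, r.pos⟩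
      rwa [Pi.mulSingle_eq_same] at h2)
  intro y hy
  obtain ⟨A, -, hA⟩ := h y hy
  exact ⟨A, hA⟩

/-- `K` acts on the conjugates by conjugation -/
theorem conj' {g x : G} (hg : g ∈ K) (hx : x ∈ K) {A B : Fin k → Γ} (hA : R x A) (hB : R g B) :
    R (g * x * g⁻¹) (B * A * B⁻¹) :=
  r.mul _ _ _ _ (r.mul _ _ _ _ hB (mem_sup_left hx) hA) (mem_sup_left (K.inv_mem hg)) (r.inv hg hB)

/-- **There is only one summand.** -/
theorem eq_one : k = 1 := by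
  by_contra hne
  have hk := r.pos
  obtain ⟨γ, hγ1, hγ⟩ := r.γ
  have hi : (⟨1, by omega⟩ : Fin k) ≠ ⟨0, hk⟩ := fun h => by
    have := congrArg Fin.val h
    simp at this
  obtain ⟨x, hx, hxA⟩ := r.exists_single ⟨0, hk⟩ hγ
  obtain ⟨y, hy, hyA⟩ := r.exists_single ⟨1, by omega⟩ hγ
  have h := r.cover (fun A => A ⟨1, by omega⟩ = 1) rfl
    (fun A B hA hB => by rw [Pi.mul_apply, hA, hB, one_mul])
    (fun A hA => by rw [Pi.inv_apply, hA, inv_one])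
    (fun x hx g hg A hA hxA => by
      obtain ⟨B, hB⟩ := r.all g hg
      refine ⟨_, ?_, r.conj' hg hx hxA hB⟩
      rw [Pi.mul_apply, Pi.mul_apply, hA, mul_one, Pi.inv_apply, mul_inv_cancel])
    hx hxA (by rw [Pi.mulSingle_eq_of_ne hi]) (by
      intro h1
      apply hγ1
      have h2 := congrFun h1 ⟨0, hk⟩
      rwa [Pi.mulSingle_eq_same] at h2)
  obtain ⟨B, hB1, hB⟩ := h y hy
  have h2 := r.inj _ _ _ hyA hB
  rw [← h2, Pi.mulSingle_eq_same] at hB1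
  exact hγ1 hB1

end Rep

/-- **The homomorphism** -/
theorem Rep.exists_hom {K M Q T : Subgroup G} {Γ : Type} [Group Γ] {R : G → (Fin 1 → Γ) → Prop}
    (r : Rep K M Q T 1 Γ R) : ∃ f : K →* Γ, f.ker = pCore 2 ↥K ∧ (∀ x : K, R x fun _ => f x) ∧
      ∀ γ : Γ, Odd (orderOf γ) → ∃ x, f x = γ := by
  choose A hA using fun x : K => r.all x x.2
  have hA' : ∀ x : K, A x = fun _ => A x 0 := by
    intro x
    funext i
    rw [Subsingleton.elim i 0]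
  refine ⟨MonoidHom.mk' (fun x => A x 0) fun x y => ?_, ?_, ?_, ?_⟩
  · have h1 := r.mul _ _ _ _ (hA x) (mem_sup_left y.2) (hA y)
    have h2 := r.inj _ _ _ (hA (x * y)) h1
    exact congrFun h2 0
  · ext x
    rw [MonoidHom.mem_ker]
    show A x 0 = 1 ↔ x ∈ pCore 2 ↥K
    rw [r.c.mem_pCore x.2]
    constructor
    · intro h
      apply r.triv _ x.2
      have h1 := hA x
      have h2 : A x = 1 := by
        rw [hA' x, h]; rfl
      rwa [h2] at h1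
    · intro h
      have h1 := r.inj _ _ _ (hA x) (r.o2 _ h)
      rw [h1]; rfl
  · intro x
    have h1 := hA x
    rw [hA' x] at h1
    exact h1
  · intro γ hγ
    obtain ⟨x, hx, hxA⟩ := r.exists_single 0 hγ
    refine ⟨⟨x, hx⟩, ?_⟩
    show A ⟨x, hx⟩ 0 = γ
    rw [r.inj _ _ _ (hA ⟨x, hx⟩) hxA, Pi.mulSingle_eq_same]

end Cfsg.Agent.H282.PU
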