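import Cfsg.Agent.H282.PU.One
import Cfsg.Agent.H282.PU.TB

/-!
# S3090: one natural summand over a field of order at least 4
-/

set_option autoImplicit false
set_option linter.unusedSectionVars false
set_option linter.unusedVariables false

namespace Cfsg.Agent.H282.PU

open Subgroup Cfsg Cfsg.Agent.PLocal.ThompsonJ Cfsg.Agent.ZN.ChoiceBase
open Cfsg.Agent.ZN (o2 zl zj jj bau zc)
open Cfsg.Agent.ZN.ChoiceSit
open Cfsg.Agent.Omega.NatPair Cfsg.Agent.Lib.SL2Mat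
open Cfsg.Agent.Omega.SQ1.FFOne Cfsg.Agent.Omega.SQ1.VOf
open Cfsg.Agent.Omega.SQ1.MatchOne (Sit)
open Cfsg.Agent.Omega.SQ1.MatchL (LSit)
open Cfsg.Agent.Omega.SQ1.MidOne (Mid)
open Cfsg.Agent.Omega.SQ1.End (Base Glob Blk)
open Cfsg.Agent.Omega.SQ1
open Cfsg.Agent.Omega.MinPar (IsLoc)
open Cfsg.Agent.Omega.FFThm
open Cfsg.Agent.Omega.SQ1.FFOf (off_of_AA cv_le cv_norm)
open scoped Pointwise

universe u

variable {G : Type u} [Group G] [Finite G]

/-- every member of `L(S)` normalises `B` -/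
theorem nodeA (hc : IsCharacteristicTwoType G) (hr : ¬ SectionalPRankLE 2 4 G) {F : Type} [Field F] [Finite F]
    [CharP F 2] {S : Sylow 2 G} {H T B Y Z C L : Subgroup G} {s : G} (M : Mid F H T B Y Z C L s)
    (hTS : T ≤ (S : Subgroup G)) (hs : s ∈ (S : Subgroup G))
    (hNS : ∀ x ∈ (S : Subgroup G), (∀ a ∈ Y, x * a * x⁻¹ ∈ Y) → x ∈ T) (hF : 4 ≤ Nat.card F) :
    ∀ X : Subgroup G, IsLoc (S : Subgroup G) X → X ≤ normalizer (B : Set G) := by
  intro X hX
  have h := M.base S.isPGroup' hTS hs hNS hF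
  have hD : normalizer (Z : Set G) ≤ normalizer (B : Set G) := NodeA.normD_le hc h
  obtain ⟨x, y, z, t, ω, htB, co₁⟩ := CoOf.exists_co M h hF
  have hmem : ∀ (A : Subgroup G) (u : G), u ∈ cj s A ↔ s⁻¹ * u * s ∈ A := fun A u => mem_cj
  have hY2 : ∀ u, u ∈ Y ↔ s⁻¹ * u * s ∈ cj s Y := by
    intro u
    constructor
    · exact fun hu => M.sY1' hu
    · intro hu
      have h1 := M.sY2 hu
      have e : s * (s⁻¹ * u * s) * s⁻¹ = u := by group
      rwa [e] at h1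
  have hZ2 : ∀ u, u ∈ Z ↔ s⁻¹ * u * s ∈ Z := by
    intro u
    rw [← hmem, M.cjZ]
  have co₂ := CoOf.co_conj s co₁ (hmem Y) hY2 hZ2 (hmem C)
  rcases Cfsg.Agent.Omega.FFOne.five (TyL.toBase h) co₁ co₂ h.C12 (CoOf.trivial_D M h) with ⟨hC1, hC2, ω', co⟩ | ⟨z', ω', co⟩
  · rcases Nat.lt_or_ge 4 (Nat.card F) with h4 | h4
    · exact NodeA.l_le h co hC1 h4 hc hD hX
    · exfalso
      apply hr
      have h5 : Nat.card F = 4 := le_antisymm h4 hF
      rw [h5] at h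
      refine RankFourOf.rank_four_of_sylow h ?_
      have h6 := h.cardC1
      rwa [hC1, Subgroup.card_bot, mul_one] at h6
  · exact NodeA.sp_le h co hc hD hX

/-- **The end of one natural summand, `q ≥ 4`, without simplicity.** -/
theorem exists_normal_of_mid (hc : IsCharacteristicTwoType G) (hr : ¬ SectionalPRankLE 2 4 G) {F : Type}
    [Field F] [Finite F] [CharP F 2] {S : Sylow 2 G} {H T B Y Z C L : Subgroup G} {s : G}
    (M : Mid F H T B Y Z C L s) (hTS : T ≤ (S : Subgroup G)) (hs : s ∈ (S : Subgroup G))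
    (hNS : ∀ x ∈ (S : Subgroup G), (∀ a ∈ Y, x * a * x⁻¹ ∈ Y) → x ∈ T) (hF : 4 ≤ Nat.card F) :
    ∃ R : Subgroup G, IsPGroup 2 R ∧ R ≠ ⊥ ∧ normalizer (R : Set G) = ⊤ := by
  have h := M.base S.isPGroup' hTS hs hNS hF
  have g := EndOneOf.glob M hc hTS hs hNS hF (nodeA hc hr M hTS hs hNS hF)
  obtain ⟨K, k⟩ := M.lk
  have b := M.blk
  have go1 := h.go1_of g k M.faith
  have hcent := h.cent g (h.tor_of k M.faith) go1
  have hTB : T ≤ B := End3.T_le_B_of g.c2t h (h.freeD g k M.faith) b (b.conj h) hcent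
  have fus1 : ∀ x ∈ Y, ∃ l : G, l * x * l⁻¹ ∈ Z := fun x hx => by
    obtain ⟨l, -, hl⟩ := k.fus x hx
    exact ⟨l, hl⟩
  have fus2 : ∀ x ∈ cj s Y, ∃ l : G, l * x * l⁻¹ ∈ Z := fun x hx => by
    obtain ⟨l, hl⟩ := fus1 _ (h.s2 x hx)
    refine ⟨l * s, ?_⟩
    have h1 : l * (s * x * s⁻¹) * l⁻¹ = l * s * x * (l * s)⁻¹ := by group
    rwa [h1] at hl
  have ht : TEnd S T B Y (cj s Y) Z C (cj s C) s (Nat.card F) :=
    { h with
      leB := hTB
      c2t := hc
      go1 := go1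
      cent := hcent
      fus1 := fus1
      fus2 := fus2 }
  exact ht.exists_normal

namespace Conf

variable {K M Q T : Subgroup G} {s : G} {S : Sylow 2 G} (c : Conf K M Q T s S)

include c

/-- **One natural summand, `q ≥ 4`.** -/
theorem big {F : Type} [Field F] [Finite F] [CharP F 2] (hF : 4 ≤ Nat.card F)
    (N : NatK F T (K ⊔ T) (zl T (K ⊔ T)) (Cfsg.Agent.Omega.FrameFF.cv T (K ⊔ T)) 1) :
    SectionalPRankLE 2 4 G := by
  by_contra hr
  have h := c.lsit (ffOf c.cf.minH c.cf.nle N cv_le cv_norm)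
  have hNS := c.memT h
  have mid := h.mid hF
  obtain ⟨R, hR2, hR1, hRn⟩ := exists_normal_of_mid c.c2 hr mid c.TS c.sS hNS hF
  apply c.sM
  refine c.norm_le hR2 hR1 ?_ ?_
  · rw [hRn]; exact le_top
  · rw [hRn]; trivial

end Conf

end Cfsg.Agent.H282.PU
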