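import Cfsg.Agent.H282.PU.Ctx

/-!
# S3090: the hypotheses give `Ctx`; the choice of `T`, `s`, `S`
-/

set_option autoImplicit false
set_option linter.unusedSectionVars false

namespace Cfsg.Agent.H282.PU

open Subgroup Cfsg Cfsg.Agent.PLocal.ThompsonJ Cfsg.Agent.ZN.ChoiceBase
open Cfsg.Agent.ZN (o2 zl zj jj bau zc)
open Cfsg.Agent.ZN.ChoiceSit
open Cfsg.Agent.Omega.SQ1.FFOne (mem_norm_of conj_mem_of_norm)
open Cfsg.Agent.MinSimple.VModule (oddGen mem_oddGen oddGen_le le_normalizer_oddGen)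
open Cfsg.Agent.MinSimple.MinParabolic (IsMinPar)
open Cfsg.Agent.MinSimple.Choice97 (exists_normalizing)
open scoped Pointwise

universe u

/-- a group of order 6 is not generated by its elements of odd order -/
theorem not_six {X : Type*} [Group X] (h6 : Nat.card X = 6)
    (hg : closure {x : X | Odd (orderOf x)} = ⊤) : False := by
  have hf : Finite X := Nat.finite_of_card_ne_zero (by omega)
  have hp : Fact (Nat.Prime 3) := ⟨Nat.prime_three⟩
  obtain ⟨y, hy⟩ := exists_prime_orderOf_dvd_card' (G := X) 3 (by rw [h6]; norm_num)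
  have h3 : Nat.card (zpowers y) = 3 := by rw [Nat.card_zpowers, hy]
  have h2 : (zpowers y).index = 2 := by
    have := (zpowers y).card_mul_index
    rw [h3, h6] at this
    omega
  have hle : closure {x : X | Odd (orderOf x)} ≤ zpowers y := by
    rw [closure_le]
    intro x hx
    have h4 : x ^ 2 ∈ zpowers y := Subgroup.sq_mem_of_index_two h2 x
    have h5 : Nat.Coprime 2 (orderOf x) := Nat.coprime_two_left.2 hx
    obtain ⟨m, hm⟩ := exists_pow_eq_self_of_coprime h5
    rw [← hm]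
    exact pow_mem h4 m
  rw [hg, top_le_iff] at hle
  rw [hle, index_top] at h2
  omega

variable {G : Type u} [Group G] [Finite G]

theorem gen_oddGen (H : Subgroup G) : oddGen (oddGen H) = oddGen H := by
  apply le_antisymm (oddGen_le _)
  conv_lhs => rw [Cfsg.Agent.MinSimple.VModule.oddGen_def]
  rw [closure_le]
  rintro x ⟨hx, ho⟩
  exact mem_oddGen (mem_oddGen hx ho) ho

theorem good_of {K : Subgroup G} (hK : oddGen K = K)
    (h : Nonempty (↥K ⧸ pCore 2 ↥K ≃* Multiplicative (ZMod 3)) ∨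
      ∃ n : ℕ, 1 ≤ n ∧ Nonempty (↥K ⧸ pCore 2 ↥K ≃*
        Matrix.SpecialLinearGroup (Fin 2) (GaloisField 2 n))) : Good (↥K ⧸ pCore 2 ↥K) := by
  rcases h with ⟨⟨e⟩⟩ | ⟨n, hn, ⟨e⟩⟩
  · apply good_three
    rw [Nat.card_congr e.toEquiv]
    simp
  · have hcF : Nat.card (GaloisField 2 n) = 2 ^ n := GaloisField.card 2 n (by omega)
    have hfin : Finite (GaloisField 2 n) := Nat.finite_of_card_ne_zero (by rw [hcF]; positivity)
    rcases Nat.lt_or_ge n 2 with h2 | h2
    · exfalso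
      obtain rfl : n = 1 := by omega
      refine not_six (X := ↥K ⧸ pCore 2 ↥K) ?_ ?_
      · rw [Nat.card_congr e.toEquiv]
        classical
        have hf : Fintype (GaloisField 2 1) := Fintype.ofFinite _
        rw [Cfsg.Agent.ClassicalGeometry.PSL2Basic.card_SL2, ← Nat.card_eq_fintype_card, hcF]
        norm_num
      · rw [eq_top_iff]
        intro x _
        obtain ⟨x, rfl⟩ := QuotientGroup.mk_surjective x
        have key : ∀ y : G, y ∈ K → ∀ hy : y ∈ K, (QuotientGroup.mk (⟨y, hy⟩ : K) : ↥K ⧸ pCore 2 ↥K) ∈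
            closure {x : ↥K ⧸ pCore 2 ↥K | Odd (orderOf x)} := by
          intro y hy0
          rw [← hK, Cfsg.Agent.MinSimple.VModule.oddGen_def] at hy0
          induction hy0 using closure_induction with
          | mem z hz =>
            intro hy
            apply Subgroup.subset_closure
            have h1 : orderOf (QuotientGroup.mk (⟨z, hy⟩ : K) : ↥K ⧸ pCore 2 ↥K) ∣ orderOf z := by
              have := orderOf_map_dvd (QuotientGroup.mk' (pCore 2 ↥K)) (⟨z, hy⟩ : K)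
              rwa [Subgroup.orderOf_mk] at this
            exact Odd.of_dvd_nat hz.2 h1
          | one =>
            intro hy
            have : (QuotientGroup.mk (⟨1, hy⟩ : K) : ↥K ⧸ pCore 2 ↥K) = 1 := rfl
            rw [this]; exact one_mem _
          | mul a b ha hb iha ihb =>
            intro hy
            have ha' : a ∈ K := by rw [← hK, Cfsg.Agent.MinSimple.VModule.oddGen_def]; exact ha
            have hb' : b ∈ K := by rw [← hK, Cfsg.Agent.MinSimple.VModule.oddGen_def]; exact hb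
            exact mul_mem (iha ha') (ihb hb')
          | inv a ha iha =>
            intro hy
            have ha' : a ∈ K := by rw [← hK, Cfsg.Agent.MinSimple.VModule.oddGen_def]; exact ha
            exact inv_mem (iha ha')
        exact key x x.2 x.2
    · apply Good.congr e
      apply good_sl
      rw [hcF]
      calc 4 = 2 ^ 2 := by norm_num
        _ ≤ 2 ^ n := Nat.pow_le_pow_right (by norm_num) h2

/-- a Sylow subgroup of `H` meets a normal subgroup `K` in a Sylow subgroup -/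
theorem syl_inf {H K T : Subgroup G} (hT : Syl T H) (hKH : K ≤ H) (hn : H ≤ normalizer (K : Set G)) :
    Syl (T ⊓ K) K := by
  refine ⟨inf_le_right, hT.2.1.to_le inf_le_left, fun P hP hP2 hTP => ?_⟩
  obtain ⟨S, hS, hPS⟩ := exists_syl hP2 (hP.trans hKH)
  obtain ⟨g, hg, hgS⟩ := syl_conj hS hT
  have h1 : cj g P ≤ T ⊓ K := by
    refine le_inf (by rw [← hgS]; exact cj_mono g hPS) ?_
    rintro _ ⟨x, hx, rfl⟩
    exact conj_mem_of_norm (hn hg) (hP hx)
  have h2 : Nat.card P ≤ Nat.card ↥(T ⊓ K) := by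
    rw [← card_cj g P]; exact Subgroup.card_le_of_le h1
  exact (Subgroup.eq_of_le_of_card_ge hTP h2).symm

/-- the hypotheses of S3090 give `Ctx` -/
theorem Ctx.of_hyp (hG : IsCharacteristicTwoType G) (H T : Subgroup G) (hT : Syl T H)
    (hstar : Nonempty (↥(oddGen H) ⧸ pCore 2 ↥(oddGen H) ≃* Multiplicative (ZMod 3)) ∨
      ∃ n : ℕ, 1 ≤ n ∧ Nonempty (↥(oddGen H) ⧸ pCore 2 ↥(oddGen H) ≃*
        Matrix.SpecialLinearGroup (Fin 2) (GaloisField 2 n)))
    (hsyl : ∀ S : Subgroup G, IsPGroup 2 S → o2 H ≤ S → S ≤ normalizer (oddGen H : Set G) →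
      (∀ s ∈ S, ∀ k ∈ oddGen H, s * k * s⁻¹ * k⁻¹ ∈ o2 (oddGen H)) → S = o2 H)
    (huniq : maxTwoLocalsContaining H = {normalizer (oddGen H : Set G)}) :
    Ctx (oddGen H) (normalizer (oddGen H : Set G)) (o2 H) T := by
  set K := oddGen H with hK
  set M := normalizer (K : Set G) with hM
  have hKH : K ≤ H := oddGen_le H
  have hHM : H ≤ M := le_normalizer_oddGen H
  have hOQ : o2 K ≤ o2 H := by
    refine le_o2 (isPGroup_o2 K) ((o2_le K).trans hKH) (hHM.trans ?_)
    exact normalizer_le_of_cj (F := fun K => o2 K) pCore_cj K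
  have htr : ∀ q ∈ o2 H, ∀ k ∈ K, q * k * q⁻¹ * k⁻¹ ∈ o2 K := by
    intro q hq k hk
    have h1 : o2 H ⊓ K ≤ o2 K := by
      refine le_o2 ((isPGroup_o2 H).to_le inf_le_left) inf_le_right fun x hx => mem_norm_of ?_
      rintro y ⟨hy, hyK⟩
      exact ⟨conj_mem_of_norm (le_normalizer_o2 H (hKH hx)) hy,
        K.mul_mem (K.mul_mem hx hyK) (K.inv_mem hx)⟩
    apply h1
    refine ⟨?_, K.mul_mem (conj_mem_of_norm (hHM (o2_le H hq)) hk) (K.inv_mem hk)⟩
    have h2 := mul_mem hq (conj_mem_of_norm (le_normalizer_o2 H (hKH hk)) (inv_mem hq))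
    have e : q * (k * q⁻¹ * k⁻¹) = q * k * q⁻¹ * k⁻¹ := by group
    rwa [e] at h2
  have hMmem : M ∈ maxTwoLocalsContaining H := by rw [huniq]; exact rfl
  obtain ⟨hMmax, -⟩ := hMmem
  obtain ⟨R₁, hR2, hR1, hMR⟩ := id hMmax.1
  have hRo : R₁ ≤ o2 M := by
    refine le_o2 hR2 ?_ ?_
    · rw [hMR]; exact le_normalizer
    · rw [hMR]
  have hoM : o2 M ≤ o2 H := by
    have hp : Fact (Nat.Prime 2) := ⟨Nat.prime_two⟩
    have h1 : IsPGroup 2 (o2 H ⊔ o2 M : Subgroup G) :=
      IsPGroup.to_sup_of_normal_right' (isPGroup_o2 H) (isPGroup_o2 M)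
        ((o2_le H).trans (hHM.trans (le_normalizer_o2 M)))
    have htrM : ∀ q ∈ o2 M, ∀ k ∈ K, q * k * q⁻¹ * k⁻¹ ∈ o2 K := by
      intro q hq k hk
      have hKM : K ≤ M := le_normalizer
      have h1 : o2 M ⊓ K ≤ o2 K := by
        refine le_o2 ((isPGroup_o2 M).to_le inf_le_left) inf_le_right fun x hx => mem_norm_of ?_
        rintro y ⟨hy, hyK⟩
        exact ⟨conj_mem_of_norm (le_normalizer_o2 M (hKM hx)) hy,
          K.mul_mem (K.mul_mem hx hyK) (K.inv_mem hx)⟩
      apply h1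
      refine ⟨?_, K.mul_mem (conj_mem_of_norm (o2_le M hq) hk) (K.inv_mem hk)⟩
      have h2 := mul_mem hq (conj_mem_of_norm (le_normalizer_o2 M (hKM hk)) (inv_mem hq))
      have e : q * (k * q⁻¹ * k⁻¹) = q * k * q⁻¹ * k⁻¹ := by group
      rwa [e] at h2
    have h2 : (o2 H ⊔ o2 M : Subgroup G) = o2 H := by
      apply hsyl _ h1 le_sup_left (sup_le ((o2_le H).trans hHM) (o2_le M))
      -- trivial action
      let C : Subgroup G := {
        carrier := {x | x ∈ M ∧ ∀ k ∈ K, x * k * x⁻¹ * k⁻¹ ∈ o2 K}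
        one_mem' := ⟨M.one_mem, fun k _ => by simp [one_mem]⟩
        mul_mem' := by
          rintro x y ⟨hx, hx'⟩ ⟨hy, hy'⟩
          refine ⟨M.mul_mem hx hy, fun k hk => ?_⟩
          have hMo : M ≤ normalizer ((o2 K : Subgroup G) : Set G) :=
            normalizer_le_of_cj (F := fun K => o2 K) pCore_cj K
          have h1 := mul_mem (conj_mem_of_norm (hMo hx) (hy' k hk)) (hx' k hk)
          have e : x * (y * k * y⁻¹ * k⁻¹) * x⁻¹ * (x * k * x⁻¹ * k⁻¹) =
            x * y * k * (x * y)⁻¹ * k⁻¹ := by group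
          rwa [e] at h1
        inv_mem' := by
          rintro x ⟨hx, hx'⟩
          refine ⟨M.inv_mem hx, fun k hk => ?_⟩
          have hMo : M ≤ normalizer ((o2 K : Subgroup G) : Set G) :=
            normalizer_le_of_cj (F := fun K => o2 K) pCore_cj K
          have h1 := conj_mem_of_norm (hMo (M.inv_mem hx)) (inv_mem (hx' k hk))
          have e : x⁻¹ * (x * k * x⁻¹ * k⁻¹)⁻¹ * x⁻¹⁻¹ = x⁻¹ * k * x⁻¹⁻¹ * k⁻¹ := by group
          rwa [e] at h1 }
      have h3 : (o2 H ⊔ o2 M : Subgroup G) ≤ C :=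
        sup_le (fun q hq => ⟨hHM (o2_le H hq), htr q hq⟩) (fun q hq => ⟨o2_le M hq, htrM q hq⟩)
      exact fun s hs => (h3 hs).2
    rw [← h2]
    exact le_sup_right
  refine
    { c2 := hG
      eM := rfl
      gen := gen_oddGen H
      good := good_of (gen_oddGen H) hstar
      two := hT.2.1
      QT := o2_le_syl hT
      TM := hT.1.trans hHM
      KQ := hKH.trans (le_normalizer_o2 H)
      tr := htr
      syl := hsyl
      OQ := hOQ
      sylK := syl_inf hT hKH hHM
      loc := ?_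
      cQ := ?_
      Q1 := ?_ }
  · intro R hR hR1 hKR hTR
    have hHR : H ≤ normalizer (R : Set G) := by
      rw [← Cfsg.Agent.PushGen.oddGen_sup_syl hT]
      exact sup_le hKR hTR
    -- a maximal 2-local over `N(R)`
    obtain ⟨N, hN, hNR, hmax⟩ : ∃ N : Subgroup G, IsTwoLocal N ∧ normalizer (R : Set G) ≤ N ∧
        ∀ N' : Subgroup G, IsTwoLocal N' → N ≤ N' → N' = N := by
      obtain ⟨N, ⟨hN1, hN2⟩, hN3⟩ := Set.Finite.exists_maximal
        (s := {N : Subgroup G | IsTwoLocal N ∧ normalizer (R : Set G) ≤ N}) (Set.toFinite _)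
        ⟨_, ⟨R, hR, hR1, rfl⟩, le_rfl⟩
      exact ⟨N, hN1, hN2, fun N' hN' h => le_antisymm (hN3 ⟨hN', hN2.trans h⟩ h) h⟩
    have h1 : N ∈ maxTwoLocalsContaining H := ⟨⟨hN, hmax⟩, hHR.trans hNR⟩
    rw [huniq] at h1
    rw [← show N = M from h1]
    exact hNR
  · refine (centralizer_le (fun x hx => hoM hx)).trans (fun x hx => hoM ?_)
    refine self_cent hG hMmax.1 ⟨?_, hx⟩
    rw [hMR]
    exact centralizer_le_normalizer _ (centralizer_le (fun y hy => hRo hy) hx)
  · intro h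
    apply hR1
    rw [eq_bot_iff, ← h]
    exact hRo.trans hoM

/-- The configuration: `s ∈ S ∖ M` normalises `T = S ∩ M`, `s² ∈ T`. -/
structure Conf (K M Q T : Subgroup G) (s : G) (S : Sylow 2 G) : Prop extends Ctx K M Q T where
  sS : s ∈ S
  sN : s ∈ normalizer (T : Set G)
  sq : s * s ∈ T
  sM : s ∉ M
  TS : T ≤ S
  SM : (S : Subgroup G) ⊓ M ≤ T

theorem even_of_c2 (hG : IsCharacteristicTwoType G) : IsOfEvenCharacteristic G := by
  rintro N ⟨R, hR, hR1, rfl⟩ _
  exact hG.2 R hR hR1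

/-- **The choice.** -/
theorem Ctx.exists_conf {K M Q T₀ : Subgroup G} (c₀ : Ctx K M Q T₀)
    (hn₀ : ¬ normalizer (T₀ : Set G) ≤ M) : ∃ (T : Subgroup G) (s : G) (S : Sylow 2 G), Conf K M Q T s S := by
  classical
  have hp : Fact (Nat.Prime 2) := ⟨Nat.prime_two⟩
  -- the choice of `T`
  obtain ⟨T, ⟨hTT, hT2, hTM, hTn⟩, hTmax⟩ := Set.Finite.exists_maximal
    (s := {T : Subgroup G | T₀ ≤ T ∧ IsPGroup 2 T ∧ T ≤ M ∧ ¬ normalizer (T : Set G) ≤ M})
    (Set.toFinite _) ⟨T₀, le_rfl, c₀.two, c₀.TM, hn₀⟩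
  have c : Ctx K M Q T := c₀.mono hTT hT2 hTM
  have hbig : ∀ T' : Subgroup G, T < T' → IsPGroup 2 T' → T' ≤ M → normalizer (T' : Set G) ≤ M := by
    intro T' h1 h2 h3
    by_contra h4
    exact h1.not_ge (hTmax ⟨hTT.trans h1.le, h2, h3, h4⟩ h1.le)
  -- 2-groups over `T` not in `M` meet `M` in `T`
  have hcap : ∀ P : Subgroup G, IsPGroup 2 P → T ≤ P → ¬ P ≤ M → P ⊓ M ≤ T := by
    intro P hP hTP hPM
    by_contra hlt
    have h1 : T < P ⊓ M := lt_of_le_of_ne (le_inf hTP hTM) fun h => hlt (by rw [← h])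
    have h2 := hbig _ h1 (hP.to_le inf_le_left) inf_le_right
    have h3 : P ⊓ M < P := lt_of_le_of_ne inf_le_left fun h => hPM (inf_eq_left.1 h)
    obtain ⟨p, hpP, hpN, hpT, -⟩ := exists_normalizing hP h3
    exact hpT ⟨hpP, h2 hpN⟩
  by_cases hcase : ∃ P : Subgroup G, IsPGroup 2 P ∧ T ≤ P ∧ P ≤ normalizer (T : Set G) ∧ ¬ P ≤ M
  · obtain ⟨P, hP2, hTP, hPN, hPM⟩ := hcase
    have hTltP : T < P := lt_of_le_of_ne hTP fun h => hPM (by rw [← h]; exact hTM)
    obtain ⟨s, hsP, hsN, hsT, hss⟩ := exists_normalizing hP2 hTltP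
    obtain ⟨S, hPS⟩ := hP2.exists_le_sylow
    have hTS : T ≤ S := hTP.trans hPS
    refine ⟨T, s, S, { c with
      sS := hPS hsP, sN := hsN, sq := hss, sM := ?_, TS := hTS, SM := ?_ }⟩
    · exact fun h => hsT (hcap P hP2 hTP hPM ⟨hsP, h⟩)
    · exact hcap S S.isPGroup' hTS fun h => hPM (hPS.trans h)
  · exfalso
    push Not at hcase
    obtain ⟨P₂, hP₂, hTP₂⟩ := exists_syl hT2 (le_normalizer : T ≤ normalizer (T : Set G))
    have hP₂M : P₂ ≤ M := hcase P₂ hP₂.2.1 hTP₂ hP₂.1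
    -- `T = P₂`
    have hTP : T = P₂ := by
      by_contra hne
      have h1 := hbig P₂ (lt_of_le_of_ne hTP₂ hne) hP₂.2.1 hP₂M
      apply hTn
      intro x hx
      have h2 : cj x P₂ ≤ normalizer (T : Set G) := by
        rintro _ ⟨y, hy, rfl⟩
        exact mul_mem (mul_mem hx (hP₂.1 hy)) (inv_mem hx)
      have h3 : T ≤ cj x P₂ := by
        rw [← cj_eq_of_mem_normalizer hx]
        exact cj_mono x hTP₂
      have h4 : cj x P₂ ≤ M := hcase _ (isPGroup_cj x hP₂.2.1) h3 h2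
      have s1 : Syl P₂ (normalizer (T : Set G) ⊓ M) :=
        ⟨le_inf hP₂.1 hP₂M, hP₂.2.1, fun P hP hP2 h => hP₂.2.2 P (hP.trans inf_le_left) hP2 h⟩
      have s2 : Syl (cj x P₂) (normalizer (T : Set G) ⊓ M) := by
        refine ⟨le_inf h2 h4, isPGroup_cj x hP₂.2.1, fun P hP hP2 h => ?_⟩
        have h5 : Nat.card P ≤ Nat.card (cj x P₂) := by
          obtain ⟨R, hR, hPR⟩ := exists_syl hP2 (hP.trans inf_le_left)
          obtain ⟨g, -, hg⟩ := syl_conj hR hP₂
          rw [card_cj]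
          calc Nat.card P ≤ Nat.card R := Subgroup.card_le_of_le hPR
            _ = Nat.card P₂ := by rw [← hg, card_cj]
        exact (Subgroup.eq_of_le_of_card_ge h h5).symm
      obtain ⟨y, hy, hyx⟩ := syl_conj s2 s1
      have h6 : y * x ∈ normalizer (P₂ : Set G) := by
        rw [mem_normalizer_iff_cj, ← cj_cj]
        exact hyx
      have h7 := M.mul_mem (M.inv_mem hy.2) (h1 h6)
      rwa [inv_mul_cancel_left] at h7
    -- `T` is a Sylow 2-subgroup of `G`
    obtain ⟨S, hTS⟩ := hT2.exists_le_sylow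
    have hSeq : (S : Subgroup G) = T := by
      by_contra hne
      obtain ⟨p, hpS, hpN, hpT, -⟩ := exists_normalizing S.isPGroup' (lt_of_le_of_ne hTS (Ne.symm hne))
      apply hpT
      have h1 := hP₂.2.2 (T ⊔ zpowers p) (sup_le le_normalizer (zpowers_le.2 hpN))
        (S.isPGroup'.to_le (sup_le hTS (zpowers_le.2 hpS))) (by rw [← hTP]; exact le_sup_left)
      rw [← hTP] at h1
      rw [← h1]
      exact (le_sup_right : zpowers p ≤ T ⊔ zpowers p) (mem_zpowers p)
    have hne : T ≠ Q := fun h => hTn (c.norm_T_of_eq h)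
    obtain ⟨R₀, hR1, hRT, hR⟩ := Cfsg.Agent.PushGen.main (even_of_c2 c.c2) S
      (M₀ := normalizer (T : Set G)) (H := K ⊔ T) (R := T) (by rw [hSeq]; exact le_normalizer)
      (by rw [hSeq]; exact le_sup_right) (by rw [c.o2_eq]; exact c.Q1)
      (by rw [hSeq]; exact (c.minPar hne).exists_max) c.ne_bot (by rw [hSeq])
      (by rw [c.oddGen_eq]; exact c.sylH) le_rfl
    apply hTn
    refine (le_sup_left.trans hR).trans (c.loc R₀ (hT2.to_le hRT) hR1 ?_ ?_)
    · exact (le_sup_left.trans le_sup_right).trans hR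
    · exact (le_sup_right.trans le_sup_right).trans hR

end Cfsg.Agent.H282.PU
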