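import Cfsg.Agent.Mrg.Omega.SQ1.NodeI
import Cfsg.Agent.H282.PU.Choice

/-!
# S3090: the FF theorem for the configuration, one natural summand
-/

set_option autoImplicit false
set_option linter.unusedSectionVars false
set_option linter.unusedVariables false

namespace Cfsg.Agent.H282.PU

open Subgroup Cfsg Cfsg.Agent.PLocal.ThompsonJ Cfsg.Agent.ZN.ChoiceBase
open Cfsg.Agent.ZN (o2 zl zj jj bau zc)
open Cfsg.Agent.ZN.ChoiceSit
open Cfsg.Agent.Omega.NatPair Cfsg.Agent.Lib.SL2Mat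
open Cfsg.Agent.Omega.SQ1.FFOne Cfsg.Agent.Omega.SQ1.VOf
open Cfsg.Agent.Omega.SQ1.MatchOne (Sit)
open Cfsg.Agent.Omega.SQ1.MatchL (LSit)
open Cfsg.Agent.Omega.FFThm
open Cfsg.Agent.Omega.SQ1.FFOf (off_of_AA cv_le cv_norm)
open Cfsg.Agent.MinSimple.VModule (oddGen mem_oddGen oddGen_le le_normalizer_oddGen)
open Cfsg.Agent.MinSimple.MinParabolic (IsMinPar)
open scoped Pointwise

universe u

variable {G : Type u} [Group G] [Finite G]

/-- the FF output with one natural summand -/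
noncomputable def ffOf {H T D : Subgroup G} {F : Type} [Field F] [Finite F] [CharP F 2] (hm : MinH H T)
    (hnle : ¬ jj T ≤ o2 H) (N : NatK F T H (zl T H) D 1) (hDV : D ≤ zl T H)
    (hDn : ∀ h ∈ H, ∀ v ∈ D, h * v * h⁻¹ ∈ D) : FF F H T (zl T H) D where
  π g := N.e g 0
  map_mul := by
    intro v hv w hw
    rw [N.mul v hv w hw]; rfl
  V0V := hDV
  ker := by
    intro v hv
    rw [← N.ker v hv]
    constructor
    · intro h0
      funext i
      rw [Subsingleton.elim i 0, h0]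
      rfl
    · intro h0
      rw [h0]
      rfl
  surj := by
    intro x
    obtain ⟨v, hv, hx⟩ := N.surj fun _ => x
    exact ⟨v, hv, by rw [hx]⟩
  Vn := zl_norm
  V0n := hDn
  lift := by
    intro A
    obtain ⟨g, hg, h1, h2⟩ := N.lift fun _ => A
    exact ⟨g, hg, fun v hv => h1 v hv 0⟩
  norm := by
    intro g hg x hx A hA
    obtain ⟨B, hB⟩ := N.norm g hg x hx (fun _ => A) fun v hv i => by
      rw [Subsingleton.elim i 0]
      exact hA v hv
    exact ⟨B 0, fun v hv => hB v hv 0⟩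
  off1 := by
    intro A hA a ha
    by_cases hne : A ≤ centralizer (zl T H : Set G)
    · refine ⟨0, fun v hv => ?_⟩
      have h1 := mem_centralizer_iff.1 (hne ha) v hv
      rw [← h1, mul_inv_cancel_right, up_zero, ap_one]
    · obtain ⟨I, hI, -⟩ := N.off A hA.2.1 (off_of_AA hm hA hne)
      obtain ⟨b, -, hb⟩ := hI a ha
      exact ⟨b 0, fun v hv => hb.1 v hv 0⟩
  off2 := by
    intro A hA hnt x
    have hne : ¬ A ≤ centralizer (zl T H : Set G) := by
      intro hle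
      apply hnt
      intro a ha v hv
      have h1 := mem_centralizer_iff.1 (hle ha) v hv
      rw [← h1, mul_inv_cancel_right]
    obtain ⟨I, hI, hI'⟩ := N.off A hA.2.1 (off_of_AA hm hA hne)
    have h0 : (0 : Fin 1) ∈ I := by
      by_contra h0
      apply hnt
      intro a ha v hv
      obtain ⟨b, hb, hab⟩ := hI a ha
      have h1 : N.e (a * v * a⁻¹) 0 = ap (up (b 0)) (N.e v 0) := hab.1 v hv 0
      rw [hb 0 h0, up_zero, ap_one] at h1
      exact h1
    obtain ⟨a, ha, hab⟩ := hI' (fun _ => x) (fun i hi => absurd (by rwa [Subsingleton.elim i 0]) hi)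
    exact ⟨a, ha, fun v hv => hab.1 v hv 0⟩
  VQ := Cfsg.Agent.Omega.SQ1.VOf.MinH.zl_le_o2 hm
  Vsq := Cfsg.Agent.Omega.SQ1.VOf.MinH.sq hm
  VcQ := Cfsg.Agent.Omega.SQ1.VOf.MinH.o2_cent hm
  nle := hnle

namespace Conf

variable {K M Q T : Subgroup G} {s : G} {S : Sylow 2 G} (c : Conf K M Q T s S)

include c

theorem hn : ¬ normalizer (T : Set G) ≤ M := fun h => c.sM (h c.sN)

theorem cf : Cfsg.Agent.PushGen.Cf T (K ⊔ T) := c.toCtx.cf c.hn

theorem sT : s ∉ T := fun h => c.sM (c.TM h)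

/-- no nontrivial subgroup of `T` is normalised by `K T` and `s` -/
theorem core (R : Subgroup G) (hRT : R ≤ T) (hH : ∀ x ∈ K ⊔ T, ∀ r ∈ R, x * r * x⁻¹ ∈ R)
    (hs : ∀ r ∈ R, s * r * s⁻¹ ∈ R) : R = ⊥ := by
  by_contra hne
  apply c.sM
  exact c.loc R (c.two.to_le hRT) hne (fun x hx => mem_norm_of (hH x ((le_sup_left : K ≤ K ⊔ T) hx)))
    (fun x hx => mem_norm_of (hH x ((le_sup_right : T ≤ K ⊔ T) hx))) (mem_norm_of hs)

/-- a subgroup normalised by `K T` and a 2-group is normalised only by elements of `M` -/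
theorem norm_le {R : Subgroup G} (hR : IsPGroup 2 R) (hne : R ≠ ⊥)
    (hH : K ⊔ T ≤ normalizer (R : Set G)) : normalizer (R : Set G) ≤ M :=
  c.loc R hR hne (le_sup_left.trans hH) (le_sup_right.trans hH)

/-- **The FF theorem.** -/
theorem ff : NoOver (zl T (K ⊔ T)) (K ⊔ T) ∧ Concl T (K ⊔ T) := by
  have h := c.cf
  obtain ⟨A, hA, hoff⟩ := Cfsg.Agent.Omega.NO3b.FPB.SymIn.exists_off h.minH h.cent_sup_ne h.nle
  exact Cfsg.Agent.Omega.FFBr.ffthm G T (K ⊔ T) h.syl h.mp h.sc ⟨A, hA.2.1.trans h.syl.1, hoff⟩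

theorem sit {V V1 V0 : Subgroup G} {q : ℕ} (h : Cfsg.Agent.Omega.SQ1.Bau.In (K ⊔ T) T (o2 (K ⊔ T)) V V1 V0 q) :
    Sit (K ⊔ T) T (o2 (K ⊔ T)) V V1 V0 q s where
  dd := h
  two := c.two
  sN := c.sN
  sq := c.sq
  core := c.core
  nc := by
    obtain ⟨L, k⟩ := h.exists_blk
    have hTA : T ≤ T ⊔ zpowers s := le_sup_left
    have hAT : T ⊔ zpowers s ≤ normalizer (T : Set G) := sup_le le_normalizer (zpowers_le.2 c.sN)
    have idx : ∀ a ∈ T ⊔ zpowers s, ∀ b ∈ T ⊔ zpowers s, a ∉ T → b ∉ T → a⁻¹ * b ∈ T := by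
      intro a ha b hb haT hbT
      have h1 := (Cfsg.Agent.Omega.SQ1.SitOf.mem_A c.sN c.sq ha).resolve_left haT
      have h2 := (Cfsg.Agent.Omega.SQ1.SitOf.mem_A c.sN c.sq hb).resolve_left hbT
      have h3 := mul_mem (inv_mem h1) h2
      have e : (s⁻¹ * a)⁻¹ * (s⁻¹ * b) = a⁻¹ * b := by group
      rwa [e] at h3
    have hd := k.dat h hTA hAT idx (fun R hR hH hA =>
      c.core R hR hH (hA s (mem_sup_right (mem_zpowers s))))
    obtain ⟨t, ht, v, hv, u, hu, hne⟩ := hd.exists_noncommuting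
    have htT : t ∉ T := by
      intro htT
      apply hne
      exact Cfsg.Agent.Omega.SQ1.Bau.elem_comm h.Y_elem v hv _ (h.Y_norm t (h.TH htT) u hu)
    have h1 := (Cfsg.Agent.Omega.SQ1.SitOf.mem_A c.sN c.sq ht).resolve_left htT
    refine ⟨v, hv, (s⁻¹ * t) * u * (s⁻¹ * t)⁻¹, h.Y_norm _ (h.TH h1) u hu, ?_⟩
    have e : s * ((s⁻¹ * t) * u * (s⁻¹ * t)⁻¹) * s⁻¹ = t * u * t⁻¹ := by group
    rw [e]
    exact hne

theorem lsit {F : Type} [Field F] [Finite F] [CharP F 2] {V V0 : Subgroup G}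
    (N : FF F (K ⊔ T) T V V0) : LSit N s where
  hm := c.cf.minH
  sit := c.sit (N.toIn c.cf.minH)

/-- `N_S(Y) = T` -/
theorem memT {F : Type} [Field F] [Finite F] [CharP F 2] {V V0 : Subgroup G}
    {N : FF F (K ⊔ T) T V V0} (h : LSit N s) :
    ∀ x ∈ (S : Subgroup G), (∀ a ∈ Cfsg.Agent.Omega.SQ1.Bau.In.Y T V, x * a * x⁻¹ ∈ Cfsg.Agent.Omega.SQ1.Bau.In.Y T V) →
      x ∈ T := by
  intro x hx hn
  have hY2 : IsPGroup 2 (Cfsg.Agent.Omega.SQ1.Bau.In.Y T V) := c.two.to_le (h.sit.Y_le_B.trans (bau_le T))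
  have hY0 : Cfsg.Agent.Omega.SQ1.Bau.In.Y T V ≠ ⊥ := by
    obtain ⟨v, hv, e⟩ := N.surj ![1, 0]
    intro h0
    have h1 : v ∈ Cfsg.Agent.Omega.SQ1.Bau.In.Y T V := Cfsg.Agent.Omega.SQ1.Bau.In.V_le_Y T V hv
    rw [h0, mem_bot] at h1
    subst h1
    rw [(N.ker 1 hv).2 (one_mem _)] at e
    have := congrFun e 0
    simp at this
  have hH : K ⊔ T ≤ normalizer (Cfsg.Agent.Omega.SQ1.Bau.In.Y T V : Set G) :=
    fun g hg => mem_norm_of (h.sit.dd.Y_norm g hg)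
  exact c.SM ⟨hx, c.norm_le hY2 hY0 hH (mem_norm_of hn)⟩

end Conf

end Cfsg.Agent.H282.PU
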