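import Cfsg.Agent.H282.PU.One

/-!
# S3090: the symmetric case, if `T` is a Sylow 2-subgroup of `M`
-/

set_option autoImplicit false
set_option linter.unusedSectionVars false
set_option linter.unusedVariables false

namespace Cfsg.Agent.H282.PU

open Subgroup Cfsg Cfsg.Agent.PLocal.ThompsonJ Cfsg.Agent.ZN.ChoiceBase
open Cfsg.Agent.ZN (o2 zl zj jj bau zc)
open Cfsg.Agent.ZN.ChoiceSit
open Cfsg.Agent.Omega.SQ1.FFOne Cfsg.Agent.Omega.SQ1.VOf
open Cfsg.Agent.Omega.SQ1
open Cfsg.Agent.Omega.SQ1.Match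
open Cfsg.Agent.Omega.FFThm
open Cfsg.Agent.Omega.SQ1.FFOf (off_of_AA cv_le cv_norm)
open scoped Pointwise

universe u v

variable {G : Type u} [Group G] [Finite G]

/-! ### Rank four from one block -/

section rank

open Cfsg.Agent.Omega.SQ1.Two

variable {T Q : Subgroup G} {s a b z z₁ x : G} {R : Subgroup G}

/-- `S ∩ N(Q) = T` -/
theorem norm_inf {S : Sylow 2 G} (hs : Syl T (normalizer (Q : Set G))) (hTS : T ≤ (S : Subgroup G)) {y : G}
    (hy : y ∈ (S : Subgroup G)) (hyQ : y ∈ normalizer (Q : Set G)) : y ∈ T := by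
  have h1 := hs.2.2 ((S : Subgroup G) ⊓ normalizer (Q : Set G)) inf_le_right (S.isPGroup'.to_le inf_le_left)
    (le_inf hTS hs.1)
  rw [← h1]
  exact ⟨hy, hyQ⟩

theorem rank_of_ne (h : Blk T Q s a b z z₁ x R) (hc : IsCharacteristicTwoType G) (S : Sylow 2 G)
    (hTS : T ≤ (S : Subgroup G)) (hsS : s ∈ (S : Subgroup G)) {c : G} (hcR : c ∈ R) (hc1 : c ≠ 1) :
    SectionalPRankLE 2 4 G := by
  have hp : Fact (Nat.Prime 2) := ⟨Nat.prime_two⟩
  have hle : zpowers s ≤ normalizer (T : Set G) := zpowers_le.2 h.sT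
  have hTB := h.T_eq hc
  -- elements of `T⟨s⟩`
  have hA : ∀ y ∈ T ⊔ zpowers s, y ∈ T ∨ s⁻¹ * y ∈ T := fun y hy => SitOf.mem_A h.sT h.ss hy
  -- elements of `s T` act on `D` as `s`
  have hbB := h.bB
  have hR : ∀ r ∈ R, r = 1 ∨ r = c := by
    intro r hr
    by_cases hr1 : r = 1
    · exact Or.inl hr1
    · exact Or.inr (h.R_unique hc hr hcR hr1 hc1)
  have hsz : s⁻¹ * z * s = z := by
    calc s⁻¹ * z * s = s⁻¹ * (s * z * s⁻¹) * s := by rw [h.sz]
      _ = z := by group
  have hsc : s * c * s⁻¹ ≠ c := by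
    intro e
    apply hc1
    refine h.sR hc hcR ?_
    have e' : s⁻¹ * c * s = c := by
      calc s⁻¹ * c * s = s⁻¹ * (s * c * s⁻¹) * s := by rw [e]
        _ = c := by group
    rw [e']; exact hcR
  have hzc : z * c = c * z := h.comm h.zQ (h.RQ hcR)
  -- elements of `D` fixed by `s`
  have hDs : ∀ d ∈ Q ⊓ cj s Q, s * d * s⁻¹ = d → d = 1 ∨ d = z := by
    intro d hd hsd
    have hdc : ∀ d' : G, s * (d' * z) * s⁻¹ = s * d' * s⁻¹ * z := by
      intro d'
      calc s * (d' * z) * s⁻¹ = s * d' * s⁻¹ * (s * z * s⁻¹) := by group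
        _ = _ := by rw [h.sz]
    -- `d ∈ R ∪ R z`
    have hq := h.dec d hd.1
    have hz1 : ∀ w, w ∈ Q ⊓ cj s Q → w ∉ R → ¬ (d * w ∈ R ∧ w ∉ Q ⊓ cj s Q) := fun w hw _ h1 => h1.2 hw
    rcases hq with h1 | h1 | h1 | h1
    · rcases hR _ h1 with h2 | h2
      · exact Or.inl h2
      · exact absurd (h2 ▸ hsd) hsc
    · rcases hR _ h1 with h2 | h2
      · right
        calc d = d * z * z := by rw [mul_assoc, h.zz, mul_one]
          _ = z := by rw [h2, one_mul]
      · exfalso
        apply hsc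
        rw [← h2, hdc, hsd]
    · exfalso
      apply h.z1D
      have h2 := mul_mem (inv_mem hd) (h.RD h1)
      rwa [inv_mul_cancel_left] at h2
    · exfalso
      apply h.z1D
      have h2 := mul_mem (inv_mem hd) (h.RD h1)
      rw [inv_mul_cancel_left] at h2
      have h3 := mul_mem h2 (inv_mem h.zD)
      rwa [mul_inv_cancel_right] at h3
  -- `|Q| ≥ 5`
  have hcardQ : 4 < Nat.card Q := by
    by_contra hcon
    push Not at hcon
    have hz1ne : z₁ ≠ 1 := fun h1 => h.z1D (h1 ▸ one_mem _)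
    have h8 := Nat.card_pos (α := R)
    -- `R` has index 4
    classical
    have hfin : (Q : Set G) ⊇ (({1, z, z₁, z₁ * z, c} : Finset G) : Set G) := by
      intro q hq
      simp only [Finset.coe_insert, Finset.coe_singleton, Set.mem_insert_iff, Set.mem_singleton_iff] at hq
      rcases hq with rfl | rfl | rfl | rfl | rfl
      · exact one_mem _
      · exact h.zQ
      · exact h.z1Q
      · exact mul_mem h.z1Q h.zQ
      · exact h.RQ hcR
    have h5 : ({1, z, z₁, z₁ * z, c} : Finset G).card = 5 := by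
      have n0 : (1 : G) ≠ z := h.z1.symm
      have n1 : z ≠ z₁ * z := fun e => hz1ne (mul_eq_right.1 e.symm)
      have n2 : z₁ ≠ z₁ * z := fun e => h.z1 (mul_eq_left.1 e.symm)
      have n3 : (1 : G) ≠ z₁ * z := by
        intro h1
        apply h.z1_ne
        calc z₁ = z₁ * z * z := by rw [mul_assoc, h.zz, mul_one]
          _ = z := by rw [← h1, one_mul]
      have n4 : z ≠ c := fun e => h.zR (e ▸ hcR)
      have n5 : z₁ ≠ c := fun e => h.z1D (e ▸ h.RD hcR)
      have n6 : z₁ * z ≠ c := by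
        intro e
        apply h.z1D
        have h2 := mul_mem (h.RD hcR) (inv_mem h.zD)
        rw [← e, mul_inv_cancel_right] at h2
        exact h2
      rw [Finset.card_insert_of_notMem, Finset.card_insert_of_notMem, Finset.card_insert_of_notMem,
        Finset.card_insert_of_notMem, Finset.card_singleton]
      · simp only [Finset.mem_singleton]; exact n6
      · simp only [Finset.mem_insert, Finset.mem_singleton, not_or]; exact ⟨n2, n5⟩
      · simp only [Finset.mem_insert, Finset.mem_singleton, not_or]; exact ⟨h.z1_ne.symm, n1, n4⟩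
      · simp only [Finset.mem_insert, Finset.mem_singleton, not_or]; exact ⟨n0, hz1ne.symm, n3, hc1.symm⟩
    have h6 : ({1, z, z₁, z₁ * z, c} : Finset G).card ≤ Nat.card Q := by
      have h7 := Set.ncard_le_ncard hfin (Set.toFinite _)
      rw [Set.ncard_coe_finset] at h7
      exact h7
    omega
  -- `S = T⟨s⟩`
  have hAS : T ⊔ zpowers s ≤ (S : Subgroup G) := sup_le hTS (zpowers_le.2 hsS)
  have hSA : (S : Subgroup G) = T ⊔ zpowers s := by
    by_contra hne
    have hlt : T ⊔ zpowers s < (S : Subgroup G) := lt_of_le_of_ne hAS (Ne.symm hne)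
    obtain ⟨y, hyS, hyN, hyA, -⟩ := Cfsg.Agent.MinSimple.Choice97.exists_normalizing S.isPGroup' hlt
    apply hyA
    have hyn : ∀ w ∈ T ⊔ zpowers s, y * w * y⁻¹ ∈ T ⊔ zpowers s := fun w hw => conj_mem_of_norm hyN hw
    have hsub : cj y Q ≤ T := by
      by_contra hns
      obtain ⟨e, he, heT⟩ := Set.not_subset.1 hns
      obtain ⟨q, hq, rfl⟩ := he
      have heT' : y * q * y⁻¹ ∉ T := heT
      have heA : y * q * y⁻¹ ∈ T ⊔ zpowers s := hyn q ((le_sup_left : T ≤ _) (h.QT hq))
      have hse : s⁻¹ * (y * q * y⁻¹) ∈ T := (hA _ heA).resolve_left heT'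
      -- `y q y⁻¹` acts on `D` as `s`
      have hact : ∀ f ∈ cj y Q ⊓ T, f = 1 ∨ f = z := by
        rintro f ⟨⟨q', hq', rfl⟩, hfT⟩
        have hfT' : y * q' * y⁻¹ ∈ T := hfT
        have hcomm : (y * q * y⁻¹) * (y * q' * y⁻¹) = (y * q' * y⁻¹) * (y * q * y⁻¹) := by
          have := h.comm hq hq'
          calc (y * q * y⁻¹) * (y * q' * y⁻¹) = y * (q * q') * y⁻¹ := by group
            _ = y * (q' * q) * y⁻¹ := by rw [this]
            _ = _ := by group
        have hff : (y * q' * y⁻¹) * (y * q' * y⁻¹) = 1 := by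
          calc (y * q' * y⁻¹) * (y * q' * y⁻¹) = y * (q' * q') * y⁻¹ := by group
            _ = 1 := by rw [h.sq q' hq']; group
        show y * q' * y⁻¹ = 1 ∨ y * q' * y⁻¹ = z
        generalize y * q' * y⁻¹ = f at hcomm hff hfT'
        generalize y * q * y⁻¹ = e at hcomm hse
        have hzp : zpowers f ≤ Q ∨ zpowers f ≤ cj s Q := by
          apply h.le_or_le
          · rw [← hTB]; exact zpowers_le.2 hfT'
          · intro w hw
            obtain ⟨n, rfl⟩ := mem_zpowers_iff.1 hw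
            rw [← zpow_add, ← two_mul, zpow_mul]
            have : f ^ (2 : ℤ) = 1 := by
              rw [show (2 : ℤ) = ((2 : ℕ) : ℤ) from rfl, zpow_natCast, pow_two]; exact hff
            rw [this, one_zpow]
        have hef : e * f * e⁻¹ = f := by rw [hcomm]; group
        have hTQ : ∀ t ∈ T, ∀ w ∈ Q, t * w * t⁻¹ ∈ Q := fun t ht w hw => h.conj (h.TN ht) hw
        -- `e` swaps `Q` and `Q^s`
        have heQ : ∀ w ∈ Q, e * w * e⁻¹ ∈ cj s Q := by
          intro w hw
          have h1 := hTQ _ hse w hw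
          have h2 : e * w * e⁻¹ = s * (s⁻¹ * e * w * (s⁻¹ * e)⁻¹) * s⁻¹ := by group
          rw [h2]
          exact ⟨_, h1, rfl⟩
        have hfD : f ∈ Q ⊓ cj s Q := by
          rcases hzp with h1 | h1
          · have h2 := h1 (mem_zpowers f)
            refine ⟨h2, ?_⟩
            have h3 := heQ f h2
            rwa [hef] at h3
          · have h2 := h1 (mem_zpowers f)
            refine ⟨?_, h2⟩
            obtain ⟨w, hw, hwf⟩ := h2
            have hwf' : s * w * s⁻¹ = f := hwf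
            have h3 : e⁻¹ * f * e = f := by rw [mul_assoc, ← hcomm]; group
            have h4 : s⁻¹ * e ∈ T := hse
            -- `f = e f e⁻¹`, with `e = s t`
            have h5 : e = s * (s⁻¹ * e) := by group
            have h6 : f = s * s * ((s⁻¹ * (s⁻¹ * e) * s) * w * (s⁻¹ * (s⁻¹ * e) * s)⁻¹) * (s * s)⁻¹ := by
              calc f = e * f * e⁻¹ := hef.symm
                _ = e * (s * w * s⁻¹) * e⁻¹ := by rw [hwf']
                _ = _ := by group
            rw [h6]
            apply hTQ _ h.ss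
            apply hTQ _ _ _ hw
            have := conj_mem_of_norm (inv_mem h.sT) h4
            rwa [inv_inv] at this
        have hsf : s * f * s⁻¹ = f := by
          have h1 : s⁻¹ * e * f * (s⁻¹ * e)⁻¹ = f := by
            have h2 : s⁻¹ * e ∈ Q ⊔ cj s Q := by rw [← hTB]; exact hse
            rw [h.D_comm h2 hfD]; group
          calc s * f * s⁻¹ = s * (s⁻¹ * e * f * (s⁻¹ * e)⁻¹) * s⁻¹ := by rw [h1]
            _ = e * f * e⁻¹ := by group
            _ = f := hef
        exact hDs f hfD hsf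
      have h1 : Nat.card (cj y Q ⊓ T : Subgroup G) ≤ 2 := by
        have h2 : (cj y Q ⊓ T : Subgroup G) ≤ zpowers z := by
          intro f hf
          rcases hact f hf with rfl | rfl
          · exact one_mem _
          · exact mem_zpowers _
        refine (Subgroup.card_le_of_le h2).trans ?_
        rw [Nat.card_zpowers]
        exact Nat.le_of_dvd two_pos (orderOf_dvd_of_pow_eq_one (by rw [pow_two]; exact h.zz))
      have h2 : Nat.card (cj y Q) ≤ 2 * Nat.card (cj y Q ⊓ T : Subgroup G) := by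
        have hqe : y * q * y⁻¹ ∈ cj y Q := ⟨q, hq, rfl⟩
        apply End.card_le_two_mul hqe
        rintro _ ⟨q', hq', rfl⟩
        have h3 : y * q' * y⁻¹ ∈ T ⊔ zpowers s := hyn q' ((le_sup_left : T ≤ _) (h.QT hq'))
        rcases hA _ h3 with h4 | h4
        · exact Or.inl ⟨⟨q', hq', rfl⟩, h4⟩
        · right
          have hqe' : y * q' * y⁻¹ ∈ cj y Q := ⟨q', hq', rfl⟩
          refine ⟨(cj y Q).mul_mem ((cj y Q).inv_mem hqe) hqe', ?_⟩
          have h5 := mul_mem (inv_mem hse) h4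
          have h6 : (s⁻¹ * (y * q * y⁻¹))⁻¹ * (s⁻¹ * (y * q' * y⁻¹)) = (y * q * y⁻¹)⁻¹ * (y * q' * y⁻¹) := by
            group
          rw [h6] at h5
          exact h5
      rw [card_cj] at h2
      omega
    rcases h.cj_Q hsub with h1 | h1
    · exact mem_sup_left (norm_inf h.syl hTS hyS (mem_normalizer_iff_cj.2 h1))
    · have h2 : s⁻¹ * y ∈ normalizer (Q : Set G) := by
        rw [mem_normalizer_iff_cj, ← cj_cj, h1, cj_inv_cj]
      have h3 := norm_inf h.syl hTS (mul_mem (inv_mem hsS) hyS) h2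
      have h4 := mul_mem (mem_sup_right (mem_zpowers s) : s ∈ T ⊔ zpowers s) (mem_sup_left h3)
      rwa [mul_inv_cancel_left] at h4
  -- `|S| ≤ 32`
  have hcardS : Nat.card (S : Subgroup G) ≤ 32 := by
    have h1 := h.card_T hc hcR hc1
    have h2 : Nat.card (S : Subgroup G) ≤ 2 * Nat.card T := by
      apply End.card_le_two_mul hsS
      intro e he
      rw [hSA] at he
      exact hA e he
    omega
  -- an element of order 4
  apply TwoFusion.SectionalRank.sectionalPRankLE_of_sylow S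
  have hb' : s⁻¹ * z₁ * s ∈ cj s Q := h.swap'' h.z1Q
  have hb'D : s⁻¹ * z₁ * s ∉ Q ⊓ cj s Q := h.s_notMem' h.z1D
  set y := z₁ * (s⁻¹ * z₁ * s) with hy
  have hyT : y ∈ T := by
    rw [hTB]
    exact mul_mem (mem_sup_left h.z1Q) (mem_sup_right hb')
  have hyy : y * y = z := by
    have h1 := h.zeq h.z1Q h.z1D hb' hb'D
    rw [hy, ← h1]; simp only [mul_assoc]
  have hy4 : orderOf y = 4 := by
    have h1 : y ^ 2 ^ 1 ≠ 1 := by
      rw [pow_one, pow_two, hyy]; exact h.z1
    have h2 : y ^ 2 ^ (1 + 1) = 1 := by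
      have e : y ^ 2 ^ (1 + 1) = (y * y) * (y * y) := by
        rw [show (2 : ℕ) ^ (1 + 1) = 4 from rfl]
        simp only [pow_succ, pow_zero, one_mul, mul_assoc]
      rw [e, hyy, h.zz]
    exact orderOf_eq_prime_pow h1 h2
  set C : Subgroup (S : Subgroup G) := zpowers ⟨y, hTS hyT⟩ with hC
  have hC4 : Nat.card C = 4 := by
    rw [hC, Nat.card_zpowers, Subgroup.orderOf_mk, hy4]
  refine TwoFusion.SectionalRank.sectionalPRankLE_of_cyclic (p := 2) (k := 3) (by norm_num) C ?_
  have h1 := C.card_mul_index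
  rw [hC4] at h1
  have h2 : Nat.card ((S : Subgroup G) : Type u) ≤ 32 := hcardS
  norm_num
  omega

end rank

/-! ### The configuration -/

namespace Conf

variable {K M Q T : Subgroup G} {s : G} {S : Sylow 2 G} (c : Conf K M Q T s S)

include c

/-- `T` is a Sylow 2-subgroup of `N_G(P)` for the nontrivial 2-subgroups `P` normalised by `K T`. -/
theorem syl_P (hM : Syl T M) {P : Subgroup G} (hP : IsPGroup 2 P) (hP0 : P ≠ ⊥)
    (hHP : K ⊔ T ≤ normalizer (P : Set G)) : Syl T (normalizer (P : Set G)) :=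
  ⟨le_sup_right.trans hHP, c.two, fun R hR hR2 hTR => hM.2.2 R (hR.trans (c.norm_le hP hP0 hHP)) hR2 hTR⟩

variable {ι : Type v} {A P : Subgroup G} {L Q' V D : ι → Subgroup G}

theorem hself (hM : Syl T M) (h : MIn A T (bau T) (zj T) P s L Q' V D) (i : ι) (hP0 : P ≠ ⊥)
    (hHP : K ⊔ T ≤ normalizer (P : Set G)) : centralizer (P : Set G) ≤ P := by
  have hP2 : IsPGroup 2 P := c.two.to_le h.P_le_T
  refine JC.self_cent_of c.c2 hP2 hP0 (c.syl_P hM hP2 hP0 hHP) ?_
  intro x hx hxP
  have hZP : ∀ z ∈ zj T, z ∈ P := fun z hz => h.VP ((h.dat i).ZV hz)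
  have hxB : x ∈ bau T := Cfsg.Agent.ZN.ChoiceBase.mem_bau.2 ⟨hx, fun z hz => (hxP z (hZP z hz)).symm⟩
  refine (h.Pmem x).2 ⟨hxB, fun j => ?_⟩
  exact (h.dat j).QcV x hxB fun v hv => hxP v (h.VP hv)

/-- **There is only one block.** -/
theorem one_block [Finite ι] (hM : Syl T M) (h : MIn A T (bau T) (zj T) P s L Q' V D)
    (hHP : K ⊔ T ≤ normalizer (P : Set G)) {E : Subgroup G} (hE : E ∈ AA T) (hEP : E ≤ P) :
    Subsingleton ι := by
  constructor
  intro i i'
  by_contra hii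
  have hP2 : IsPGroup 2 P := c.two.to_le h.P_le_T
  have hP0 := GlueTwo.P_ne_bot h i
  have hPA : P ∈ AA T := h.P_AA i hE hEP
  have hS := c.syl_P hM hP2 hP0 hHP
  exact KillTwo.one_block_all (JC.charTwo c.c2) h hZ_bau (c.two.to_le (bau_le T))
    (c.hself hM h i hP0 hHP) (Block.jcond_of hS (h.J_eq i hPA))
    (fun R hR hRN => GlueTwo.syl_conj_of hS hR hRN)
    (fun F hF hsq hc => GlueTwo.AA_of h i hPA hF hsq hc) hii

/-- `N_G(P)` does not normalise `B`. -/
theorem not_norm (h : MIn A T (bau T) (zj T) P s L Q' V D) (i : ι)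
    (hHP : K ⊔ T ≤ normalizer (P : Set G)) :
    ¬ normalizer (P : Set G) ≤ normalizer (bau T : Set G) := by
  intro h1
  have hP0 := GlueTwo.P_ne_bot h i
  have hB0 : bau T ≠ ⊥ := by
    intro h0
    apply hP0
    rw [eq_bot_iff]
    intro x hx
    have := ((h.Pmem x).1 hx).1
    rwa [h0] at this
  apply c.sM
  exact c.norm_le (c.two.to_le (bau_le T)) hB0 (hHP.trans h1) (normalizer_le_bau T c.sN)

/-- **One block**: the pushing up situation. -/
theorem push_of (hM : Syl T M) (h : MIn A T (bau T) (zj T) P s L Q' V D)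
    (i : ι) (hi : ∀ j, j = i) (hHP : K ⊔ T ≤ normalizer (P : Set G))
    (h2 : (zj T).relIndex (V i) = 2) : Two.Push T (bau T) P (V i) s := by
  have hP2 : IsPGroup 2 P := c.two.to_le h.P_le_T
  have hP0 := GlueTwo.P_ne_bot h i
  have hPQ : P = Q' i := by
    apply le_antisymm
    · exact fun x hx => ((h.Pmem x).1 hx).2 i
    · exact fun x hx => (h.Pmem x).2 ⟨(h.dat i).QB hx, fun j => by rw [hi j]; exact hx⟩
  refine ⟨c.syl_P hM hP2 hP0 hHP, fun x hx => ((h.Pmem x).1 hx).1, bau_le T, fun v hv => h.VP hv,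
    (h.dat i).Vsq, fun y hy q hq => (h.PV hq hy).symm, ?_, c.sN, normalizer_le_bau T c.sN, c.sq,
    jj_le_bau T, ?_, ?_, ?_⟩
  · intro t ht hc
    have htB : t ∈ bau T := mem_bau.2 ⟨ht, fun z hz => (hc z ((h.dat i).ZV hz)).symm⟩
    rw [hPQ]
    exact (h.dat i).QcV t htB hc
  · rw [hPQ, ← Block.idx_eq (h.dat i)]
    exact h2
  · obtain ⟨j, v, hv, u, hu, hne⟩ := h.par_exists i
    rw [hi j] at hu
    exact ⟨v, hv, u, hu, hne⟩
  · intro R hR hn hs
    exact c.core R (hR.trans h.P_le_T) (fun x hx r hr => conj_mem_of_norm (hn (hHP hx)) hr)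
      (fun r hr => conj_mem_of_norm hs hr)

/-- **One block, `q = 2`**: sectional 2-rank at most 4. -/
theorem rank_of (hM : Syl T M) (h : MIn A T (bau T) (zj T) P s L Q' V D) (i : ι) (hi : ∀ j, j = i)
    (hHP : K ⊔ T ≤ normalizer (P : Set G)) (h2 : (zj T).relIndex (V i) = 2) :
    SectionalPRankLE 2 4 G := by
  have hpush := c.push_of hM h i hi hHP h2
  obtain ⟨a, b, z, hf⟩ := hpush.hyp.exists_frame
  have hmove : ¬ normalizer (P : Set G) ≤ normalizer ((P ⊔ cj s P : Subgroup G) : Set G) := by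
    rw [← hpush.B_eq]; exact c.not_norm h i hHP
  obtain ⟨g, hg, hgB⟩ := SetLike.not_le_iff_exists.1 hmove
  rw [mem_normalizer_iff_cj] at hgB
  obtain ⟨z₁, x, R, hB⟩ := hf.exists_blk c.c2 hg hgB
  by_cases hR : R = ⊥
  · exact hB.rank_of_bot S c.TS hR
  · obtain ⟨⟨r, hcR⟩, hc1⟩ := (Subgroup.ne_bot_iff_exists_ne_one).1 hR
    exact rank_of_ne hB c.c2 S c.TS c.sS hcR fun h1 => hc1 (Subtype.ext h1)

/-- **The symmetric case**, `T` a Sylow 2-subgroup of `M`. -/
theorem two_end (hM : Syl T M) {k m : ℕ} (hk : 0 < k) (hm : 1 ≤ m)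
    (N : SymK T (K ⊔ T) (zl T (K ⊔ T)) (Cfsg.Agent.Omega.FrameFF.cv T (K ⊔ T)) k m) :
    SectionalPRankLE 2 4 G := by
  obtain ⟨ι, N', d, t, r, ⟨i⟩, h, hp⟩ := Cfsg.Agent.Omega.NO3b.FPB.SymIn.main c.cf.minH c.cf.nle c.ff.1 hk hm N
  have : Finite ι := h.finite_index
  have hTA : T ≤ T ⊔ zpowers s := le_sup_left
  have hAT : T ⊔ zpowers s ≤ normalizer (T : Set G) := sup_le le_normalizer (zpowers_le.2 c.sN)
  have idx : ∀ a ∈ T ⊔ zpowers s, ∀ b ∈ T ⊔ zpowers s, a ∉ T → b ∉ T → a⁻¹ * b ∈ T := by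
    intro a ha b hb haT hbT
    have h1 := (SitOf.mem_A c.sN c.sq ha).resolve_left haT
    have h2 := (SitOf.mem_A c.sN c.sq hb).resolve_left hbT
    have h3 := mul_mem (inv_mem h1) h2
    have e : (s⁻¹ * a)⁻¹ * (s⁻¹ * b) = a⁻¹ * b := by group
    rwa [e] at h3
  obtain ⟨L, -, -, hL⟩ := h.min_in hp hTA hAT idx
    (fun R hR hH hA => c.core R hR hH (hA s (mem_sup_right (mem_zpowers s))))
    (mem_sup_right (mem_zpowers s)) c.sT
  obtain ⟨E, hE, hEP⟩ := EndTwo.exists_AA h
  have h1 := c.one_block hM hL (EndTwo.norm_star h i) hE hEP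
  exact c.rank_of hM hL i (fun j => Subsingleton.elim j i) (EndTwo.norm_star h i) (BauS.Blk.relIndex_Z h)

end Conf

end Cfsg.Agent.H282.PU
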