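import Cfsg.Agent.H282.PU.Alg
import Cfsg.Agent.H282.PU.Two
import Cfsg.Agent.H282.PU.Big

/-!
# S3090: the structure of `K / O₂(K)` from the FF theorem, `T` is a Sylow 2-subgroup of `M`
-/

set_option autoImplicit false
set_option linter.unusedSectionVars false
set_option linter.unusedVariables false

namespace Cfsg.Agent.H282.PU

open Subgroup Cfsg Cfsg.Agent.PLocal.ThompsonJ Cfsg.Agent.ZN.ChoiceBase
open Cfsg.Agent.ZN (o2 zl zj jj bau zc)
open Cfsg.Agent.ZN.ChoiceSit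
open Cfsg.Agent.Omega.NatPair Cfsg.Agent.Lib.SL2Mat
open Cfsg.Agent.Omega.SQ1.FFOne Cfsg.Agent.Omega.SQ1.VOf
open Cfsg.Agent.Omega.FFThm
open Cfsg.Agent.Omega.FrameFF (cv)
open Cfsg.Agent.Omega.SQ1.FFOf (off_of_AA cv_le cv_norm)
open Cfsg.Agent.MinSimple.VModule (oddGen mem_oddGen oddGen_le le_normalizer_oddGen)
open scoped Pointwise

universe u v

variable {G : Type u} [Group G] [Finite G]

namespace Ctx

variable {K M Q T : Subgroup G} (c : Ctx K M Q T)

/-- conjugation by an element of `M` on `K` -/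
def conjK (x : M) : ↥K ≃* ↥K where
  toFun k := ⟨x * k * (x : G)⁻¹, c.MK x.2 k.2⟩
  invFun k := ⟨(x : G)⁻¹ * k * x, by have := c.MK (M.inv_mem x.2) k.2; rwa [inv_inv] at this⟩
  left_inv k := Subtype.ext (by show (x : G)⁻¹ * (x * k * (x : G)⁻¹) * x = k; group)
  right_inv k := Subtype.ext (by show (x : G) * ((x : G)⁻¹ * k * x) * (x : G)⁻¹ = k; group)
  map_mul' k l := Subtype.ext (by
    show (x : G) * (k * l) * (x : G)⁻¹ = x * k * (x : G)⁻¹ * (x * l * (x : G)⁻¹); group)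

theorem conjK_map (x : M) : (pCore 2 ↥K).map ((c.conjK x : ↥K ≃* ↥K) : ↥K →* ↥K) = pCore 2 ↥K := by
  ext k
  constructor
  · rintro ⟨l, hl, rfl⟩
    have h1 := (c.mem_pCore l.2).1 hl
    exact (c.mem_pCore ((c.conjK x) l).2).2 (c.MO x.2 h1)
  · intro hk
    have h1 := (c.mem_pCore k.2).1 hk
    have h2 := c.MO (M.inv_mem x.2) h1
    rw [inv_inv] at h2
    refine ⟨(c.conjK x).symm k, (c.mem_pCore ((c.conjK x).symm k).2).2 h2, ?_⟩
    exact (c.conjK x).apply_symm_apply k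

/-- the action of `M` on `K / O₂(K)` -/
noncomputable def act : M →* MulAut (↥K ⧸ pCore 2 ↥K) :=
  MonoidHom.mk' (fun x => QuotientGroup.congr _ _ (c.conjK x) (c.conjK_map x)) (by
    intro x y
    ext k
    obtain ⟨k, rfl⟩ := QuotientGroup.mk_surjective k
    rw [MulAut.mul_apply]
    rw [QuotientGroup.congr_mk, QuotientGroup.congr_mk, QuotientGroup.congr_mk]
    apply congrArg
    apply Subtype.ext
    show ((x * y : M) : G) * k * ((x * y : M) : G)⁻¹ = x * (y * k * (y : G)⁻¹) * (x : G)⁻¹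
    rw [Subgroup.coe_mul]
    group)

theorem mem_Cc_of_act {x : M} (h : c.act x = 1) : (x : G) ∈ c.Cc := by
  refine ⟨x.2, fun k hk => ?_⟩
  have h1 : c.act x (QuotientGroup.mk ⟨k, hk⟩) = QuotientGroup.mk ⟨k, hk⟩ := by rw [h]; rfl
  have h2 : (QuotientGroup.mk (c.conjK x ⟨k, hk⟩) : ↥K ⧸ pCore 2 ↥K) = QuotientGroup.mk ⟨k, hk⟩ := h1
  have h3 := QuotientGroup.eq.1 h2.symm
  have h4 := (c.mem_pCore ((⟨k, hk⟩ : K)⁻¹ * c.conjK x ⟨k, hk⟩).2).1 h3
  have h5 : k * (k⁻¹ * (x * k * (x : G)⁻¹)) * k⁻¹ ∈ o2 K := conj_mem_of_norm (le_normalizer_o2 K hk) h4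
  have e : k * (k⁻¹ * (x * k * (x : G)⁻¹)) * k⁻¹ = x * k * (x : G)⁻¹ * k⁻¹ := by group
  rwa [e] at h5

include c in
theorem relIndex_dvd {P : Subgroup G} (hP : IsPGroup 2 P) (hQP : Q ≤ P) (hPM : P ≤ M) :
    Q.relIndex P ∣ Nat.card (MulAut (↥K ⧸ pCore 2 ↥K)) := by
  have h1 : (c.act.comp (inclusion hPM)).ker = Q.subgroupOf P := by
    ext x
    rw [MonoidHom.mem_ker, mem_subgroupOf]
    constructor
    · intro h
      have h2 := c.mem_Cc_of_act (x := inclusion hPM x) h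
      rw [← c.inf_Cc hP hQP]
      exact ⟨x.2, h2⟩
    · intro h
      have h2 := c.Q_le_Cc h
      ext k
      obtain ⟨k, rfl⟩ := QuotientGroup.mk_surjective k
      show (QuotientGroup.mk (c.conjK (inclusion hPM x) k) : ↥K ⧸ pCore 2 ↥K) = QuotientGroup.mk k
      rw [eq_comm, QuotientGroup.eq]
      refine (c.mem_pCore (k⁻¹ * c.conjK (inclusion hPM x) k).2).2 ?_
      have h3 := h2.2 k k.2
      have h4 : (k : G)⁻¹ * (x * k * (x : G)⁻¹ * (k : G)⁻¹) * (k : G)⁻¹⁻¹ ∈ o2 K :=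
        conj_mem_of_norm (le_normalizer_o2 K (K.inv_mem k.2)) h3
      have e : (k : G)⁻¹ * (x * k * (x : G)⁻¹ * (k : G)⁻¹) * (k : G)⁻¹⁻¹ = (k : G)⁻¹ * (x * k * (x : G)⁻¹) := by
        group
      rwa [e] at h4
  have h2 : Q.relIndex P = Nat.card (c.act.comp (inclusion hPM)).range := by
    rw [relIndex, ← h1, Subgroup.index_ker]
  rw [h2]
  exact Subgroup.card_subgroup_dvd_card _

include c in
/-- `T` is a Sylow 2-subgroup of `M`, by counting -/
theorem syl_M {n : ℕ} (h1 : ∀ P : Subgroup G, IsPGroup 2 P → Q ≤ P → P ≤ M → Q.relIndex P ≤ n)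
    (h2 : n ≤ Q.relIndex T) : Syl T M := by
  refine ⟨c.TM, c.two, fun P hPM hP hTP => ?_⟩
  have h3 := h1 P hP (c.QT.trans hTP) hPM
  have h4 := Subgroup.relIndex_mul_relIndex Q T P c.QT hTP
  have h5 : 0 < Q.relIndex T := Nat.pos_of_ne_zero Subgroup.FiniteIndex.index_ne_zero
  have h6 : 0 < T.relIndex P := Nat.pos_of_ne_zero Subgroup.FiniteIndex.index_ne_zero
  have h7 : T.relIndex P = 1 := by
    by_contra hne
    have h8 : 2 ≤ T.relIndex P := by omega
    have h9 : Q.relIndex T * 2 ≤ Q.relIndex T * T.relIndex P := Nat.mul_le_mul_left _ h8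
    omega
  exact le_antisymm (relIndex_eq_one.1 h7) hTP

end Ctx

namespace Conf

variable {K M Q T : Subgroup G} {s : G} {S : Sylow 2 G} (c : Conf K M Q T s S)

include c

theorem ne_Q : T ≠ Q := fun h => c.hn (c.norm_T_of_eq h)

/-- an element of `K` acting trivially on the coordinates is in `O₂(K)` -/
theorem triv {E : Type*} [AddCommGroup E] (e : G → E)
    (mul : ∀ v ∈ zl T (K ⊔ T), ∀ w ∈ zl T (K ⊔ T), e (v * w) = e v + e w)
    (ker : ∀ v ∈ zl T (K ⊔ T), e v = 0 ↔ v ∈ cv T (K ⊔ T)) {x : G} (hx : x ∈ K)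
    (h : ∀ v ∈ zl T (K ⊔ T), e (x * v * x⁻¹) = e v) : x ∈ o2 K := by
  apply c.toCtx.triv c.cf.cent_sup_ne c.cf.minH hx
  intro v hv
  have hv' : x * v * x⁻¹ ∈ zl T (K ⊔ T) := zl_norm x (mem_sup_left hx) v hv
  have h1 : e 1 = 0 := by
    have := mul 1 (one_mem _) 1 (one_mem _)
    rw [mul_one] at this
    exact left_eq_add.1 this
  have h2 : e v⁻¹ = - e v := by
    have := mul v⁻¹ (inv_mem hv) v hv
    rw [inv_mul_cancel, h1] at this
    exact eq_neg_of_add_eq_zero_left this.symm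
  rw [← ker _ (mul_mem (inv_mem hv) hv'), mul _ (inv_mem hv) _ hv', h2, h v hv]
  abel

theorem o2_cent {x : G} (hx : x ∈ o2 K) {v : G} (hv : v ∈ zl T (K ⊔ T)) : x * v * x⁻¹ = v := by
  have h1 : x ∈ o2 (K ⊔ T) := by rw [c.o2_eq]; exact c.OQ hx
  rw [Cfsg.Agent.Omega.SQ1.VOf.MinH.o2_cent c.cf.minH x h1 v hv]
  group

theorem repN {F : Type} [Field F] [Finite F] [CharP F 2] {k : ℕ} (hk : 0 < k)
    (N : NatK F T (K ⊔ T) (zl T (K ⊔ T)) (cv T (K ⊔ T)) k) :
    Rep K M Q T k (Matrix.SpecialLinearGroup (Fin 2) F)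
      (fun x A => ∀ v ∈ zl T (K ⊔ T), ∀ i, N.e (x * v * x⁻¹) i = ap (A i) (N.e v i)) where
  c := c.toCtx
  pos := hk
  one := by
    intro v hv i
    have e : 1 * v * 1⁻¹ = v := by group
    rw [e]
    exact (ap_one _).symm
  mul := by
    intro x y A B hA hy hB v hv i
    have h1 : y * v * y⁻¹ ∈ zl T (K ⊔ T) := zl_norm y hy v hv
    have e : x * y * v * (x * y)⁻¹ = x * (y * v * y⁻¹) * x⁻¹ := by group
    rw [e, hA _ h1, hB v hv, Pi.mul_apply, ap_mul]
  inj := by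
    intro x A B hA hB
    funext i
    apply ap_inj
    intro w
    obtain ⟨v, hv, e⟩ := N.surj fun _ => w
    have h1 := hA v hv i
    have h2 := hB v hv i
    rw [h1, e] at h2
    exact h2
  triv := by
    intro x hx h
    apply c.triv N.e N.mul N.ker hx
    intro v hv
    funext i
    rw [h v hv i]
    exact ap_one _
  o2 := by
    intro x hx v hv i
    rw [c.o2_cent hx hv]
    exact (ap_one _).symm
  lift := by
    intro A
    obtain ⟨g, hg, h1, -⟩ := N.lift A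
    exact ⟨g, hg, h1⟩
  conj := by
    intro g hg x hx A hA
    obtain ⟨B, hB⟩ := N.norm g (mem_sup_left hg) x (mem_sup_left hx) A hA
    exact ⟨B, hB⟩
  γ := by
    refine ⟨Cfsg.Agent.Lib.SL2Mat.mk 0 1 (-1) (-1) (by ring), ?_, ?_⟩
    · intro h
      have h1 := congrArg (fun A => ent A 0 0) h
      simp only [mk_00, ent_one_00] at h1
      exact zero_ne_one h1
    · have h3 : (Cfsg.Agent.Lib.SL2Mat.mk 0 1 (-1) (-1) (by ring) : Matrix.SpecialLinearGroup (Fin 2) F) ^ 3 = 1 := by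
        rw [pow_succ, pow_two]
        refine ext_ent ?_ ?_ ?_ ?_ <;> simp [ent_mul]
      have h4 := orderOf_dvd_of_pow_eq_one h3
      exact Odd.of_dvd_nat (by decide) h4

theorem repS {k m : ℕ} (hk : 0 < k) (hm : 1 ≤ m)
    (N : SymK T (K ⊔ T) (zl T (K ⊔ T)) (cv T (K ⊔ T)) k m) :
    Rep K M Q T k (Equiv.Perm (Fin (2 ^ m + 1))) (fun x τ => ActsSym N.e (zl T (K ⊔ T)) x 1 τ) where
  c := c.toCtx
  pos := hk
  one := by
    intro v hv i y
    have e : 1 * v * 1⁻¹ = v := by group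
    rw [e]; rfl
  mul := by
    intro x y A B hA hy hB v hv i z
    have h1 : y * v * y⁻¹ ∈ zl T (K ⊔ T) := zl_norm y hy v hv
    have e : x * y * v * (x * y)⁻¹ = x * (y * v * y⁻¹) * x⁻¹ := by group
    rw [e]
    have h2 := hA _ h1 i (B i z)
    have h3 := hB v hv i z
    rw [← h3]
    exact h2
  inj := by
    intro x A B hA hB
    exact Cfsg.Agent.Omega.SQ1.FFTwo.ActsSym.inj (S := N) hm hA hB
  triv := by
    intro x hx h
    apply c.triv N.e N.mul N.ker hx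
    intro v hv
    funext i y
    exact h v hv i y
  o2 := by
    intro x hx v hv i y
    rw [c.o2_cent hx hv]; rfl
  lift := by
    intro A
    obtain ⟨g, hg, h1, -⟩ := N.lift A
    exact ⟨g, hg, h1⟩
  conj := by
    intro g hg x hx A hA
    obtain ⟨σ, ρ, hρ⟩ := N.perm g (mem_sup_left hg)
    refine ⟨fun j => ρ (σ.symm j) * A (σ.symm j) * (ρ (σ.symm j))⁻¹, fun v hv j z => ?_⟩
    obtain ⟨i, rfl⟩ : ∃ i, j = σ i := ⟨σ.symm j, (σ.apply_symm_apply j).symm⟩
    have hv' : g⁻¹ * v * g ∈ zl T (K ⊔ T) := by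
      have := zl_norm (T := T) g⁻¹ (inv_mem (mem_sup_left hg : g ∈ K ⊔ T)) v hv
      rwa [inv_inv] at this
    have hxv : x * (g⁻¹ * v * g) * x⁻¹ ∈ zl T (K ⊔ T) := zl_norm x (mem_sup_left hx) _ hv'
    have e : g * x * g⁻¹ * v * (g * x * g⁻¹)⁻¹ = g * (x * (g⁻¹ * v * g) * x⁻¹) * g⁻¹ := by group
    rw [e]
    simp only [Equiv.symm_apply_apply]
    obtain ⟨w, rfl⟩ : ∃ w, z = ρ i w := ⟨(ρ i).symm z, ((ρ i).apply_symm_apply z).symm⟩
    have h1 := hρ _ hxv i (A i w)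
    have h2 := hA _ hv' i w
    have h3 := hρ _ hv' i w
    have e2 : g * (g⁻¹ * v * g) * g⁻¹ = v := by group
    rw [e2] at h3
    have h4 : (ρ i)⁻¹ (ρ i w) = w := (ρ i).symm_apply_apply w
    rw [Equiv.Perm.mul_apply, Equiv.Perm.mul_apply, h4]
    rw [h3, ← h2]
    exact h1
  γ := by
    have h3 : 3 ≤ Fintype.card (Fin (2 ^ m + 1)) := by
      rw [Fintype.card_fin]
      have : 2 ^ 1 ≤ 2 ^ m := Nat.pow_le_pow_right (by norm_num) hm
      omega
    obtain ⟨a, b, d, hab, had, hbd⟩ : ∃ a b d : Fin (2 ^ m + 1), a ≠ b ∧ a ≠ d ∧ b ≠ d := by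
      rw [← Fintype.two_lt_card_iff]; omega
    have h4 := Equiv.Perm.isThreeCycle_swap_mul_swap_same hab had hbd
    refine ⟨Equiv.swap a b * Equiv.swap a d, ?_, ?_⟩
    · intro h
      have h5 := h4.orderOf
      rw [h, orderOf_one] at h5
      omega
    · rw [h4.orderOf]; decide

end Conf

end Cfsg.Agent.H282.PU
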